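import Cfsg.Agent.BT.Def

/-! The endomorphism ring of an indecomposable lattice is local. -/

set_option autoImplicit false
set_option linter.unusedSectionVars false

namespace Cfsg.Agent.BT

variable {p : ℕ} [hp : Fact p.Prime] {G : Type*} [Group G] {M : Type*} [AddCommGroup M]
  [Module ℤ_[p] M] [Module.Free ℤ_[p] M] [Module.Finite ℤ_[p] M] {ρ : G →* Module.End ℤ_[p] M}

theorem l5_red {ι : Type*} [Fintype ι] [DecidableEq ι] {A B : Matrix ι ι ℤ_[p]} :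
    (PadicInt.toZMod (p := p)).mapMatrix A = (PadicInt.toZMod (p := p)).mapMatrix B ↔
      ∃ C, B + (p : ℤ_[p]) • C = A := by
  have h : ∀ a b : ℤ_[p], PadicInt.toZMod a = PadicInt.toZMod b ↔ ∃ c, b + p * c = a := fun a b => by
    rw [← sub_eq_zero, ← map_sub, ← RingHom.mem_ker, PadicInt.ker_toZMod, PadicInt.maximalIdeal_eq_span_p,
      Ideal.mem_span_singleton]
    exact ⟨fun ⟨c, hc⟩ => ⟨c, by rw [← hc]; ring⟩, fun ⟨c, hc⟩ => ⟨c, by rw [← hc]; ring⟩⟩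
  constructor
  · intro e
    choose c hc using fun i j => (h (A i j) (B i j)).1 (congrFun (congrFun e i) j)
    exact ⟨Matrix.of c, Matrix.ext hc⟩
  · rintro ⟨C, rfl⟩
    exact Matrix.ext fun i j => (h _ _).2 ⟨C i j, rfl⟩

theorem loc5 (h : Indec ρ) (Φ : Module.End ℤ_[p] M) (hΦ : ∀ g, Φ * ρ g = ρ g * Φ) :
    ∃ k, 0 < k ∧ ((∀ m, ∃ m', (Φ ^ k) m = (p : ℤ_[p]) • m') ∨
      ∀ m, ∃ m', (Φ ^ k) m - m = (p : ℤ_[p]) • m') := by
  classical
  let b := Module.Free.chooseBasis ℤ_[p] M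
  let E := LinearMap.toMatrixAlgEquiv b
  let r := (PadicInt.toZMod (p := p)).mapMatrix (m := Module.Free.ChooseBasisIndex ℤ_[p] M)
  obtain ⟨k, hk, hi⟩ : ∃ k, 0 < k ∧ r (E Φ ^ k) * r (E Φ ^ k) = r (E Φ ^ k) := by
    let _ : TopologicalSpace (Matrix (Module.Free.ChooseBasisIndex ℤ_[p] M)
      (Module.Free.ChooseBasisIndex ℤ_[p] M) (ZMod p)) := ⊥
    have : DiscreteTopology (Matrix (Module.Free.ChooseBasisIndex ℤ_[p] M)
      (Module.Free.ChooseBasisIndex ℤ_[p] M) (ZMod p)) := ⟨rfl⟩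
    obtain ⟨_, ⟨k, hk, rfl⟩, hi⟩ := exists_idempotent_in_compact_subsemigroup
      (fun _ => continuous_of_discreteTopology) {a | ∃ k, 0 < k ∧ r (E Φ ^ k) = a} ⟨_, 1, one_pos, rfl⟩
      (Set.toFinite _).isCompact (by
        rintro _ ⟨i, hi, rfl⟩ _ ⟨j, -, rfl⟩
        exact ⟨i + j, by omega, by rw [pow_add, map_mul]⟩)
    exact ⟨k, hk, hi⟩
  have : CompactSpace (Matrix (Module.Free.ChooseBasisIndex ℤ_[p] M)
    (Module.Free.ChooseBasisIndex ℤ_[p] M) ℤ_[p]) := Pi.compactSpace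
  obtain ⟨ε, ⟨⟨C, hC⟩, h2⟩, h3⟩ := exists_idempotent_in_compact_subsemigroup
    (fun _ => continuous_mul_const _)
    (Set.range (fun C => E Φ ^ k + (p : ℤ_[p]) • C) ∩ {A | ∀ g, A * E (ρ g) = E (ρ g) * A})
    ⟨E Φ ^ k, ⟨0, by simp⟩, fun g => by
      rw [← map_pow, ← map_mul, ← map_mul, ((show Commute Φ (ρ g) from hΦ g).pow_left k).eq]⟩
    ((isCompact_range (by fun_prop)).inter_right (by
      rw [Set.setOf_forall]
      exact isClosed_iInter fun g => isClosed_eq (by fun_prop) (by fun_prop))) (by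
      rintro A ⟨hA, hA'⟩ B ⟨hB, hB'⟩
      refine ⟨l5_red.1 ?_, fun g => by rw [mul_assoc, hB' g, ← mul_assoc, hA' g, mul_assoc]⟩
      rw [map_mul, l5_red.2 hA, l5_red.2 hB]
      exact hi)
  have h4 : Φ ^ k + (p : ℤ_[p]) • E.symm C = E.symm ε := by
    rw [← hC, map_add, map_smul, map_pow, AlgEquiv.symm_apply_apply]
  refine ⟨k, hk, (h (E.symm ε) (fun g => E.injective ?_) (by rw [← map_mul, h3])).imp (fun e m => ?_)
    fun e m => ?_⟩
  · rw [map_mul, map_mul, AlgEquiv.apply_symm_apply, h2 g]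
  · refine ⟨-E.symm C m, ?_⟩
    rw [eq_neg_of_add_eq_zero_left (h4.trans e)]
    simp
  · refine ⟨-E.symm C m, ?_⟩
    rw [eq_sub_of_add_eq (h4.trans e)]
    simp

end Cfsg.Agent.BT
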