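import Cfsg.Agent.BT.Core5
import Cfsg.Agent.BT.Loc5

/-! An idempotent commuting with the normalizer kills the Tate groups or acts trivially on them. -/

set_option autoImplicit false
set_option linter.unusedSectionVars false

namespace Cfsg.Agent.BT

open Finset Subgroup Cfsg.Agent.M11 Cfsg.Agent.MK

variable {p : ℕ} [hp : Fact p.Prime] {G : Type*} [Group G] [Finite G] {M : Type*} [AddCommGroup M]
  [Module ℤ_[p] M] [Module.Free ℤ_[p] M] [Module.Finite ℤ_[p] M] {ρ : G →* Module.End ℤ_[p] M} {x : G}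

theorem Indec.eps {e X : ℕ} (h : Indec ρ) (hx : LD p e X x) (ε : Module.End ℤ_[p] M) (hε : ε * ε = ε)
    (hN : ∀ n ∈ normalizer (zpowers x : Set G), ε * ρ n = ρ n * ε) :
    (∀ A B, Tate ρ x A B → ∀ a ∈ A, ε a ∈ B) ∨ (∀ A B, Tate ρ x A B → ∀ a ∈ A, a - ε a ∈ B) := by
  classical
  have hxN : x ∈ normalizer (zpowers x : Set G) := le_normalizer (mem_zpowers x)
  have hεε : ∀ a, ε (ε a) = ε a := fun a => by rw [← Module.End.mul_apply, hε]
  let F : G → Module.End ℤ_[p] M := fun g => ρ g * ε * ρ g⁻¹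
  have hF : ∀ g h, F (g * h) = ρ g * F h * ρ g⁻¹ := fun g h => by
    simp only [F, mul_inv_rev, map_mul, mul_assoc]
  have hF0 : ∀ n ∈ normalizer (zpowers x : Set G), F n = ε := fun n hn => by
    simp only [F]
    rw [← hN n hn, mul_assoc ε, ← map_mul, mul_inv_cancel, map_one, mul_one]
  have hF1 : ∀ g, ∀ h ∈ zpowers x, F (g * h) = F g := fun g h hh => by
    rw [hF, hF0 h (le_normalizer hh)]
  have hF2 : ∀ (g : G) (q : G ⧸ zpowers x), F (g • q).out = ρ g * F q.out * ρ g⁻¹ := fun g q => by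
    obtain ⟨h, e⟩ := QuotientGroup.mk_out_eq_mul (zpowers x) (g * q.out)
    rw [← hF, ← hF1 (g * q.out) _ h.2, ← e]
    congr 2
    conv_lhs => rw [← QuotientGroup.out_eq' q]
    rfl
  have := Fintype.ofFinite (G ⧸ zpowers x)
  let Φ : Module.End ℤ_[p] M := ∑ q : G ⧸ zpowers x, F q.out
  have hΦ : ∀ g, Φ * ρ g = ρ g * Φ := fun g => by
    have h1 : Φ = ρ g * Φ * ρ g⁻¹ := by
      simp only [Φ, mul_sum, sum_mul, ← hF2]
      exact (Fintype.sum_equiv (MulAction.toPerm g) _ _ fun _ => rfl).symm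
    conv_lhs => rw [h1, mul_assoc, ← map_mul, inv_mul_cancel, map_one, mul_one]
  let Y : Finset (G ⧸ zpowers x) := univ.filter fun q => x • q = q
  have hY : ∀ q ∈ Y, q.out ∈ normalizer (zpowers x : Set G) := fun q hq => by
    have h1 : x • q = q := (mem_filter.1 hq).2
    rw [← QuotientGroup.out_eq' q, MulAction.Quotient.smul_mk, eq_comm, QuotientGroup.eq] at h1
    refine inv_mem_iff.1 (mem_normalizer_fintype ?_)
    rintro _ ⟨k, rfl⟩
    simp only [← conj_zpow]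
    exact zpow_mem (by simpa [mul_assoc] using h1) k
  have hY1 : ∀ q ∈ Yᶜ, x • q ≠ q := fun q hq => by simpa [Y] using hq
  have hY2 : ∀ q ∈ Yᶜ, x • q ∈ Yᶜ := fun q hq => by
    simpa [Y] using hY1 q hq
  have hk : ¬ p ∣ Y.card := fun h => by
    have h1 := c5_free hx.ord (AddSubgroup.zmultiples (p : ℤ)) (fun _ : G ⧸ zpowers x => (1 : ℤ)) _ Yᶜ rfl
      hY2 hY1 fun q _ => by simp
    rw [sum_const, Int.mem_zmultiples_iff, nsmul_eq_mul, mul_one, Int.natCast_dvd_natCast] at h1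
    have h2 := Nat.dvd_add h h1
    rw [card_add_card_compl, ← Nat.card_eq_fintype_card] at h2
    refine hx.sq ?_
    rw [card_eq_card_quotient_mul_card_subgroup (zpowers x), Nat.card_zpowers, hx.ord]
    exact Nat.mul_dvd_mul_right h2 p
  have key : ∀ A B, Tate ρ x A B → ∀ k : ℕ, ∀ a ∈ A, (Φ ^ (k + 1)) a ∈ A ∧
      (Φ ^ (k + 1)) a - (Y.card : ℤ_[p]) ^ (k + 1) • ε a ∈ B := fun A B hT k a ha => by
    have h0 : ∀ a ∈ A, Φ a - (Y.card : ℤ_[p]) • ε a ∈ B := fun a ha => by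
      have h1 := c5_free hx.ord B.toAddSubgroup (fun q : G ⧸ zpowers x => F q.out a) _ Yᶜ rfl hY2 hY1
        fun q _ => by simp only [hF2]; exact hT.tr (F q.out) a ha
      simp only [Φ, LinearMap.sum_apply]
      rwa [← sum_add_sum_compl Y, sum_congr rfl fun q hq => congrArg (· a) (hF0 _ (hY q hq)), sum_const,
        ← Nat.cast_smul_eq_nsmul ℤ_[p], add_sub_cancel_left]
    refine ⟨hT.eA _ ((show Commute Φ (ρ x) from hΦ x).pow_left _) a ha, ?_⟩
    induction k with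
    | zero => simpa using h0 a ha
    | succ k ih =>
      have h3 := add_mem (hT.eB Φ (hΦ x) _ ih)
        (B.smul_mem ((Y.card : ℤ_[p]) ^ (k + 1)) (h0 _ (hT.eA ε (hN x hxN) a ha)))
      rwa [map_sub, map_smul, smul_sub, sub_add_sub_cancel, ← Module.End.mul_apply, ← pow_succ',
        smul_smul, ← pow_succ, hεε] at h3
  obtain ⟨k, hk0, h1⟩ := loc5 h Φ hΦ
  obtain ⟨k, rfl⟩ := Nat.exists_eq_succ_of_ne_zero hk0.ne'
  refine h1.imp (fun h1 A B hT a ha => ?_) fun h1 A B hT a ha => ?_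
  · obtain ⟨m', hm'⟩ := h1 a
    obtain ⟨h2, h3⟩ := key A B hT k a ha
    have h4 := sub_mem (hm' ▸ hT.pm m' (hm' ▸ h2)) h3
    rw [sub_sub_cancel] at h4
    exact (B.smul_mem_iff_of_isUnit ((PadicInt.isUnit_iff.2
      (PadicInt.norm_natCast_eq_one_iff.2 ((Nat.Prime.coprime_iff_not_dvd hp.out).2 hk))).pow _)).1 h4
  · have ha' := sub_mem ha (hT.eA ε (hN x hxN) a ha)
    obtain ⟨m', hm'⟩ := h1 (a - ε a)
    obtain ⟨h2, h3⟩ := key A B hT k _ ha'
    rw [map_sub ε, hεε, sub_self, smul_zero, sub_zero] at h3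
    have h4 := sub_mem h3 (hm' ▸ hT.pm m' (hm' ▸ sub_mem h2 ha'))
    rwa [sub_sub_cancel] at h4

end Cfsg.Agent.BT
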