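import Cfsg.Agent.BT.Blk2
import Cfsg.Agent.BT.Eps

/-! An irreducible character lies on one side of the idempotent of a `p'`-subgroup of `C(x)`
normalized by `N(x)`. -/

set_option autoImplicit false

namespace Cfsg.Agent.BT

open Subgroup Finset Cfsg.Agent.M11 Cfsg.Agent.Char Cfsg.Agent.MK Cfsg.Agent.Zass Module

variable {G : Type*} [Group G] [Finite G]

omit [Finite G] in
theorem blk_nrm {x : G} {S : Subgroup G} (hS : S ≤ centralizer {x}) : x ∈ normalizer (S : Set G) :=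
  centralizer_le_normalizer _ fun _ hq => mem_centralizer_singleton_iff.1 (hS hq)

theorem blk_int {p : ℕ} {x : G} (hp : 0 < p) (hx : x ^ p = 1) (S : Subgroup G) [Fintype S]
    (hS : S ≤ centralizer {x}) {χ : G → ℂ} (hχ : IsIrrCharacter G χ) :
    ∃ a : ℤ, ∑ q : S, ∑ i ∈ Ico 1 p, χ (x ^ i * q) = a := by
  obtain ⟨k, τ, -, rfl⟩ := hχ
  have hu : (Nat.card S : ℂ)⁻¹ * Nat.card S = 1 := inv_mul_cancel₀ (Nat.cast_ne_zero.2 Nat.card_pos.ne')
  obtain ⟨T, -, -, h1, h2⟩ := tr_idem (T := τ x) (p := p) (by rw [← map_pow, hx, map_one])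
    (avg_idem τ S hu) (avg_comm τ S (blk_nrm hS) _)
  have h3 := congrArg (LinearMap.trace ℂ _) (sum_ico τ x hp univ fun q : S => (q : G))
  generalize finrank ℂ (LinearMap.ker (T - 1)) = r at h1
  generalize finrank ℂ (LinearMap.range ((Nat.card S : ℂ)⁻¹ • ∑ q : S, τ q : End ℂ _)) = s at h2
  rw [mul_smul_comm, map_smul, smul_eq_mul] at h1
  rw [map_smul, smul_eq_mul] at h2
  rw [map_sub, map_sum] at h3
  refine ⟨Nat.card S * (p * r - s), ?_⟩
  push_cast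
  rw [← h1, ← h2, ← mul_sub, ← mul_assoc, mul_comm (Nat.card S : ℂ), hu, one_mul, ← h3]
  simp only [map_sum]
  rfl

theorem blk2 {p e X : ℕ} {x : G} (h : LD p e X x) (Q R : Subgroup G) [Fintype Q] [Fintype R]
    (hQR : Q ≤ R) (hR : R ≤ centralizer {x}) (hp : ¬ p ∣ Nat.card R)
    (hN : normalizer (zpowers x : Set G) ≤ normalizer (Q : Set G)) {χ : G → ℂ}
    (hχ : IsIrrCharacter G χ) :
    ∑ q : R, ∑ i ∈ Ico 1 p, χ (x ^ i * q) = 0 ∨
      ∑ q : Q, ∑ i ∈ Ico 1 p, χ (x ^ i * q) = Nat.card Q * ∑ i ∈ Ico 1 p, χ (x ^ i) := by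
  have := Fact.mk h.pr
  have hx : x ^ p = 1 := h.ord ▸ pow_orderOf_eq_one x
  obtain ⟨M, _, _, _, _, σ, hσ, hn, H⟩ := exists_lat2 (p := p) hχ fun g i => x ^ i * g
  have hn' : (finrank ℤ_[p] M : ℤ_[p]) ≠ 0 := Nat.cast_ne_zero.2 hn
  have key : ∀ (S : Subgroup G) [Fintype S], S ≤ centralizer {x} → ∃ a : ℤ,
      ∑ q : S, ∑ i ∈ Ico 1 p, χ (x ^ i * q) = a ∧ (deg χ : ℤ_[p]) *
        (LinearMap.trace ℤ_[p] M ((∑ i ∈ range p, σ x ^ i) * ∑ q : S, σ q) -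
          LinearMap.trace ℤ_[p] M (∑ q : S, σ q)) = finrank ℤ_[p] M * a := fun S _ hS => by
    obtain ⟨a, ha⟩ := blk_int h.pr.pos hx S hS hχ
    refine ⟨a, ha, ?_⟩
    rw [← map_sub, ← sum_ico σ x h.pr.pos univ fun q : S => (q : G),
      ← H (univ.map (Function.Embedding.subtype (· ∈ S))) (Ico 1 p) a (by rw [sum_map]; exact ha), sum_map]
    rfl
  have unit : ∀ n : ℕ, ¬ p ∣ n → ∃ u : ℤ_[p], u * n = 1 := fun n hn =>
    (PadicInt.isUnit_iff.2 (PadicInt.norm_natCast_eq_one_iff.2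
      ((Nat.Prime.coprime_iff_not_dvd h.pr).2 hn))).exists_left_inv
  obtain ⟨u, hu⟩ := unit _ fun e => hp (e.trans (card_dvd_of_le hQR))
  have hε := avg_idem σ Q hu
  have hc := avg_comm σ Q (blk_nrm (hQR.trans hR)) u
  rcases hσ.eps h _ hε fun n hn => avg_comm σ Q (hN hn) u with h1 | h1
  · obtain ⟨v, hv⟩ := unit _ hp
    have hd := avg_comm σ R (blk_nrm hR) v
    have h2 : ∀ q : Q, (∑ r : R, σ r) * σ q = ∑ r : R, σ r := fun q => by
      rw [sum_mul]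
      exact Fintype.sum_equiv (Equiv.mulRight ⟨q, hQR q.2⟩) _ _ fun r => by simp
    have h3 : ∀ a, (v • ∑ r : R, σ r) ((u • ∑ q : Q, σ q) a) = (v • ∑ r : R, σ r) a := fun a => by
      rw [← End.mul_apply, smul_mul_smul_comm, mul_sum, sum_congr rfl fun q _ => h2 q, sum_const, card_univ,
        ← Nat.card_eq_fintype_card, ← Nat.cast_smul_eq_nsmul ℤ_[p], smul_smul, mul_assoc, hu, mul_one]
    have h4 := tr_kill hx (avg_idem σ R hv) hd
      (fun a ha => h3 a ▸ (tate0 h.ord).eB _ hd _ (h1 _ _ (tate0 h.ord) a ha))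
      fun a ha => h3 a ▸ (tate1 h.ord).eB _ hd _ (h1 _ _ (tate1 h.ord) a ha)
    rw [mul_smul_comm, map_smul, map_smul, smul_eq_mul, smul_eq_mul] at h4
    obtain ⟨a, ha, h5⟩ := key R hR
    have h6 : (a : ℤ_[p]) = 0 := mul_left_cancel₀ hn' (by
      linear_combination (deg χ * Nat.card R : ℤ_[p]) * h4 - h5 -
        (deg χ * (LinearMap.trace ℤ_[p] M ((∑ i ∈ range p, σ x ^ i) * ∑ q : R, σ q) -
          LinearMap.trace ℤ_[p] M (∑ q : R, σ q))) * hv)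
    left
    rw [ha, Int.cast_eq_zero.1 h6, Int.cast_zero]
  · have h4 := tr_kill (η := 1 - u • ∑ q : Q, σ q) hx (by
      rw [mul_sub, mul_one, sub_mul, one_mul, hε, sub_self, sub_zero])
      (by rw [mul_sub, sub_mul, hc, mul_one, one_mul]) (h1 _ _ (tate0 h.ord)) (h1 _ _ (tate1 h.ord))
    rw [mul_sub, map_sub, map_sub, mul_smul_comm, map_smul, map_smul, smul_eq_mul, smul_eq_mul] at h4
    obtain ⟨a, ha, h5⟩ := key Q (hQR.trans hR)
    have := Fintype.ofFinite (⊥ : Subgroup G)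
    obtain ⟨b, hb, h6⟩ := key ⊥ bot_le
    simp only [Fintype.sum_subsingleton _ (1 : (⊥ : Subgroup G)), OneMemClass.coe_one, mul_one,
      map_one] at hb h6 h4
    have h7 : (a : ℤ_[p]) = Nat.card Q * b := mul_left_cancel₀ hn' (by
      linear_combination -(deg χ * Nat.card Q : ℤ_[p]) * h4 - h5 + (Nat.card Q : ℤ_[p]) * h6 -
        (deg χ * (LinearMap.trace ℤ_[p] M ((∑ i ∈ range p, σ x ^ i) * ∑ q : Q, σ q) -
          LinearMap.trace ℤ_[p] M (∑ q : Q, σ q))) * hu)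
    right
    rw [ha, hb]
    exact_mod_cast (show a = Nat.card Q * b by exact_mod_cast h7)

theorem blk {p e X : ℕ} {x : G} (h : LD p e X x) (Q : Subgroup G) [Fintype Q]
    (hQ : Q ≤ centralizer {x}) (hp : ¬ p ∣ Nat.card Q)
    (hN : normalizer (zpowers x : Set G) ≤ normalizer (Q : Set G)) {χ : G → ℂ}
    (hχ : IsIrrCharacter G χ) :
    ∑ q : Q, ∑ i ∈ Ico 1 p, χ (x ^ i * q) = 0 ∨
      ∑ q : Q, ∑ i ∈ Ico 1 p, χ (x ^ i * q) = Nat.card Q * ∑ i ∈ Ico 1 p, χ (x ^ i) :=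
  blk2 h Q Q le_rfl hQ hp hN hχ

end Cfsg.Agent.BT
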