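import Cfsg.Agent.BT.Def

/-!
# Rank inequalities from cyclic Tate cohomology
-/

set_option autoImplicit false

namespace Cfsg.Agent.BT

open LinearMap Module Submodule TensorProduct

section field
variable {k V : Type*} [Field k] [AddCommGroup V] [Module k V] [FiniteDimensional k V]

theorem rk_step (y : End k V) (j : ℕ) : finrank k (range (y ^ (j + 1))) +
    finrank k ((ker y).comap (range (y ^ j)).subtype) = finrank k (range (y ^ j)) := by
  rw [← finrank_range_add_finrank_ker (y.domRestrict (range (y ^ j))), range_domRestrict,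
    ker_domRestrict, pow_succ', End.mul_eq_comp, range_comp]

theorem rk_low (y : End k V) {q : ℕ} (h : y ^ (q + 1) = 0) :
    (q + 1) * finrank k (range (y ^ q)) ≤ finrank k V := by
  have h1 : ∀ j ≤ q + 1, finrank k (range (y ^ j)) + j * finrank k (range (y ^ q)) ≤ finrank k V := by
    intro j
    induction j with
    | zero => intro _; simpa using finrank_le _
    | succ j ih =>
      intro hj
      have h2 : range (y ^ q) ≤ range (y ^ j) := by
        rw [show q = j + (q - j) by omega, pow_add]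
        exact range_comp_le_range _ _
      have h3 : range (y ^ q) ≤ ker y := by
        rintro _ ⟨v, rfl⟩
        rw [mem_ker, ← End.mul_apply, ← pow_succ', h, LinearMap.zero_apply]
      have h4 := finrank_mono (comap_mono (f := (range (y ^ j)).subtype) h3)
      rw [(comapSubtypeEquivOfLe h2).finrank_eq] at h4
      have h5 := rk_step y j
      have h6 := ih (by omega)
      rw [add_mul]
      omega
  exact le_of_add_le_right (h1 _ le_rfl)

theorem rk_high (y : End k V) {q : ℕ} (h : y ^ q = 0) : finrank k V ≤ q * finrank k (ker y) := by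
  have h1 : ∀ j, finrank k V ≤ finrank k (range (y ^ j)) + j * finrank k (ker y) := by
    intro j
    induction j with
    | zero => rw [pow_zero, End.one_eq_id, range_id, finrank_top]; omega
    | succ j ih =>
      have h4 : finrank k ((ker y).comap (range (y ^ j)).subtype) ≤ finrank k (ker y) := by
        rw [← finrank_map_subtype_eq]
        exact finrank_mono (map_comap_le _ _)
      have h5 := rk_step y j
      rw [add_mul]
      omega
  have h2 := h1 q
  rwa [h, range_zero, finrank_bot, zero_add] at h2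

theorem rk_line (v : V) : finrank k (k ∙ v) ≤ 1 := by
  simpa using finrank_span_le_card (R := k) {v}

end field

variable {p : ℕ} [hp : Fact p.Prime] {G : Type*} [Group G] {M : Type*} [AddCommGroup M]
  [Module ℤ_[p] M] [Module.Free ℤ_[p] M] [Module.Finite ℤ_[p] M] {ρ : G →* Module.End ℤ_[p] M} {x : G}

/-- reduction modulo `p` -/
@[reducible] noncomputable def redAlg (p : ℕ) [Fact p.Prime] : Algebra ℤ_[p] (ZMod p) :=
  PadicInt.toZMod.toAlgebra

attribute [local instance] redAlg

omit [Module.Free ℤ_[p] M] [Module.Finite ℤ_[p] M] in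
theorem red_pow (hx : x ^ p = 1) :
    (Nm ρ x).baseChange (ZMod p) = (ρ x - 1).baseChange (ZMod p) ^ (p - 1) ∧
      (ρ x - 1).baseChange (ZMod p) ^ (p - 1 + 1) = 0 := by
  have h0 := Nat.sub_add_cancel hp.out.one_le
  have h1 : (Polynomial.X - 1 : Polynomial (ZMod p)) ^ (p - 1 + 1) = Polynomial.X ^ p - 1 := by
    rw [h0, sub_pow_char, one_pow]
  have h2 : ∑ i ∈ Finset.range p, (Polynomial.X : Polynomial (ZMod p)) ^ i =
      (Polynomial.X - 1) ^ (p - 1) := by
    refine mul_right_cancel₀ (Polynomial.X_sub_C_ne_zero 1) ?_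
    rw [Polynomial.C_1, geom_sum_mul, ← pow_succ, h1]
  have h3 := congrArg (Polynomial.aeval ((ρ x).baseChange (ZMod p))) h1
  have h4 := congrArg (Polynomial.aeval ((ρ x).baseChange (ZMod p))) h2
  simp only [map_pow, map_sub, map_sum, Polynomial.aeval_X, map_one] at h3 h4
  rw [baseChange_sub, baseChange_one, h3, ← h4, ← baseChange_pow, ← map_pow, hx, map_one,
    baseChange_one, sub_self, Nm]
  refine ⟨?_, rfl⟩
  simp only [map_pow, ← baseChange_pow]
  exact map_sum (End.baseChangeHom ℤ_[p] (ZMod p) M) _ _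

omit [Module.Free ℤ_[p] M] [Module.Finite ℤ_[p] M] in
theorem tmul_mem (t : ZMod p) (c : ℤ_[p]) (m : M) :
    t ⊗ₜ[ℤ_[p]] (c • m) ∈ (ZMod p) ∙ ((1 : ZMod p) ⊗ₜ[ℤ_[p]] m) :=
  mem_span_singleton.2 ⟨c • t, by rw [smul_tmul', smul_eq_mul, mul_one, smul_tmul]⟩

theorem dim0 (hx : x ^ p = 1) (h : Line (ker (ρ x - 1)) (range (Nm ρ x))) :
    p * Module.finrank ℤ_[p] (ker (ρ x - 1)) ≤ Module.finrank ℤ_[p] M + p := by
  obtain ⟨m₀, -, h⟩ := h
  obtain ⟨h1, h2⟩ := red_pow (ρ := ρ) hx
  have h3 := rk_low _ h2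
  rw [← h1, finrank_baseChange, Nat.sub_add_cancel hp.out.one_le] at h3
  obtain ⟨s, hs⟩ := (ρ x - 1).rangeRestrict.exists_rightInverse_of_surjective (range_rangeRestrict _)
  let P : M →ₗ[ℤ_[p]] ker (ρ x - 1) := (LinearMap.id - s ∘ₗ (ρ x - 1).rangeRestrict).codRestrict _
    fun m => by
      rw [mem_ker, sub_apply LinearMap.id, map_sub, sub_eq_zero]
      exact (congrArg Subtype.val (LinearMap.congr_fun hs ((ρ x - 1).rangeRestrict m))).symm
  have hP : P ∘ₗ (ker (ρ x - 1)).subtype = LinearMap.id := LinearMap.ext fun a => Subtype.ext (by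
    have : (ρ x - 1).rangeRestrict a.1 = 0 := Subtype.ext a.2
    simp [P, this])
  have h4 : Function.Injective ((ker (ρ x - 1)).subtype.baseChange (ZMod p)) :=
    Function.LeftInverse.injective (g := P.baseChange (ZMod p)) fun v => by
      rw [← comp_apply, ← baseChange_comp, hP, baseChange_id, id_apply]
  have h5 : range ((ker (ρ x - 1)).subtype.baseChange (ZMod p)) ≤
      ((ZMod p) ∙ ((1 : ZMod p) ⊗ₜ[ℤ_[p]] m₀)) ⊔ range ((Nm ρ x).baseChange (ZMod p)) := by
    rintro _ ⟨v, rfl⟩
    induction v with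
    | zero => simp
    | add a b ha hb => rw [map_add]; exact add_mem ha hb
    | tmul t a =>
      obtain ⟨c, m, e⟩ := h a.1 a.2
      rw [baseChange_tmul, subtype_apply, eq_add_of_sub_eq' e.symm, tmul_add]
      exact add_mem_sup (tmul_mem t c m₀) ⟨t ⊗ₜ m, baseChange_tmul _ _ _⟩
  have h6 := (finrank_mono h5).trans (finrank_add_le_finrank_add_finrank _ _)
  rw [finrank_range_of_inj h4, finrank_baseChange] at h6
  have h7 := rk_line (k := ZMod p) ((1 : ZMod p) ⊗ₜ[ℤ_[p]] m₀)
  nlinarith

theorem dim1 (hx : x ^ p = 1) (h : Line (ker (Nm ρ x)) (range (ρ x - 1))) :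
    Module.finrank ℤ_[p] M ≤ p * Module.finrank ℤ_[p] (ker (ρ x - 1)) + p := by
  obtain ⟨m₀, -, h⟩ := h
  have h3 := rk_high _ (red_pow (ρ := ρ) hx).2
  rw [finrank_baseChange, Nat.sub_add_cancel hp.out.one_le] at h3
  obtain ⟨s, hs⟩ := (Nm ρ x).rangeRestrict.exists_rightInverse_of_surjective (range_rangeRestrict _)
  have h4 : range (Nm ρ x) ≤ ker (ρ x - 1) := by
    rintro _ ⟨m, rfl⟩
    rw [mem_ker, ← End.mul_apply, Nm]
    simp only [map_pow]
    rw [mul_geom_sum, ← map_pow, hx, map_one, sub_self, LinearMap.zero_apply]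
  have h5 : ⊤ ≤ range (s.baseChange (ZMod p)) ⊔ (((ZMod p) ∙ ((1 : ZMod p) ⊗ₜ[ℤ_[p]] m₀)) ⊔
      range ((ρ x - 1).baseChange (ZMod p))) := by
    rintro v -
    induction v with
    | zero => simp
    | add a b ha hb => exact add_mem ha hb
    | tmul t a =>
      obtain ⟨c, m, e⟩ := h (a - s ((Nm ρ x).rangeRestrict a)) (by
        rw [mem_ker, map_sub, sub_eq_zero]
        exact (congrArg Subtype.val (LinearMap.congr_fun hs ((Nm ρ x).rangeRestrict a))).symm)
      rw [eq_add_of_sub_eq' (eq_add_of_sub_eq' e.symm), tmul_add, tmul_add]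
      exact add_mem_sup ⟨t ⊗ₜ _, baseChange_tmul _ _ _⟩
        (add_mem_sup (tmul_mem t c m₀) ⟨t ⊗ₜ m, baseChange_tmul _ _ _⟩)
  have h6 := (finrank_mono h5).trans ((finrank_add_le_finrank_add_finrank _ _).trans
    (Nat.add_le_add_left (finrank_add_le_finrank_add_finrank _ _) _))
  have h7 := rk_line (k := ZMod p) ((1 : ZMod p) ⊗ₜ[ℤ_[p]] m₀)
  have h8 := finrank_range_le (s.baseChange (ZMod p))
  have h9 := finrank_range_add_finrank_ker ((ρ x - 1).baseChange (ZMod p))
  have h10 := finrank_mono h4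
  rw [finrank_baseChange] at h8
  rw [finrank_top] at h6
  nlinarith

end Cfsg.Agent.BT
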