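import Cfsg.Agent.BT.Def

/-!
# The two Tate cohomology groups of a cyclic group of order `p`
-/

set_option autoImplicit false
set_option linter.unusedSectionVars false

namespace Cfsg.Agent.BT

open LinearMap Finset

variable {p : ℕ} [hp : Fact p.Prime] {G : Type*} [Group G] [Finite G] {M : Type*} [AddCommGroup M]
  [Module ℤ_[p] M] [Module.Free ℤ_[p] M] [Module.Finite ℤ_[p] M] {ρ : G →* Module.End ℤ_[p] M} {x : G}

theorem p_cancel {a b : M} (h : (p : ℤ_[p]) • a = (p : ℤ_[p]) • b) : a = b :=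
  smul_right_injective M (Nat.cast_ne_zero.2 hp.out.ne_zero) h

theorem exists_form (T : Module.End ℤ_[p] M) (v : M) (h : ∀ m, T v ≠ (p : ℤ_[p]) • T m) :
    ∃ f : M →ₗ[ℤ_[p]] ℤ_[p], (∀ k, T k = 0 → f k = 0) ∧ f v = 1 := by
  let b := Module.Free.chooseBasis ℤ_[p] (LinearMap.range T)
  by_cases hu : ∃ i, IsUnit (b.repr (T.rangeRestrict v) i)
  · obtain ⟨i, u, hu⟩ := hu
    refine ⟨(↑u⁻¹ : ℤ_[p]) • (b.coord i ∘ₗ T.rangeRestrict), fun k hk => ?_, ?_⟩
    · have : T.rangeRestrict k = 0 := Subtype.ext hk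
      simp [this]
    · simp only [LinearMap.smul_apply, LinearMap.comp_apply, Module.Basis.coord_apply, ← hu, smul_eq_mul,
        Units.inv_mul]
  · push Not at hu
    have h1 : ∀ i, ∃ c, b.repr (T.rangeRestrict v) i = p * c := fun i =>
      (PadicInt.norm_lt_one_iff_dvd _).1 (PadicInt.not_isUnit_iff.1 (hu i))
    choose c hc using h1
    obtain ⟨m, hm⟩ := (∑ i, c i • b i).2
    refine absurd ?_ (h m)
    have h2 : T.rangeRestrict v = (p : ℤ_[p]) • ∑ i, c i • b i := by
      rw [← b.sum_repr (T.rangeRestrict v), smul_sum]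
      exact sum_congr rfl fun i _ => by rw [hc, mul_smul]
    rw [hm]
    exact congrArg Subtype.val h2

theorem pow_sub_mem (X : Module.End ℤ_[p] M) (k : ℕ) (m : M) : (X ^ k) m - m ∈ LinearMap.range (X - 1) :=
  ⟨(∑ i ∈ range k, X ^ i) m, by rw [← Module.End.mul_apply, mul_geom_sum]; rfl⟩

theorem geom_sub_mem (X : Module.End ℤ_[p] M) (k : ℕ) (m : M) :
    (∑ i ∈ range k, X ^ i) m - (k : ℤ_[p]) • m ∈ LinearMap.range (X - 1) := by
  have h := Submodule.sum_mem _ fun i (_ : i ∈ range k) => pow_sub_mem X i m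
  rwa [sum_sub_distrib, sum_const, card_range, ← LinearMap.sum_apply, ← Nat.cast_smul_eq_nsmul ℤ_[p]] at h

theorem pow_fix {X : Module.End ℤ_[p] M} {a : M} (h : a ∈ LinearMap.ker (X - 1)) (k : ℕ) : (X ^ k) a = a := by
  have h1 : X a = a := sub_eq_zero.1 h
  induction k with
  | zero => rfl
  | succ k ih => rw [pow_succ, Module.End.mul_apply, h1, ih]

theorem nm_eq : Nm ρ x = ∑ i ∈ range p, ρ x ^ i := by simp only [Nm, map_pow]

theorem nm_fix {a : M} (h : a ∈ LinearMap.ker (ρ x - 1)) : Nm ρ x a = (p : ℤ_[p]) • a := by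
  rw [nm_eq, LinearMap.sum_apply, sum_congr rfl fun i _ => pow_fix h i, sum_const, card_range,
    Nat.cast_smul_eq_nsmul]

theorem nm_comm {φ : Module.End ℤ_[p] M} (h : φ * ρ x = ρ x * φ) : φ * Nm ρ x = Nm ρ x * φ := by
  rw [nm_eq]
  exact Commute.sum_right _ _ _ fun i _ => (show Commute φ (ρ x) from h).pow_right i

theorem sub_comm' {φ : Module.End ℤ_[p] M} (h : φ * ρ x = ρ x * φ) : φ * (ρ x - 1) = (ρ x - 1) * φ := by
  rw [mul_sub, sub_mul, h, mul_one, one_mul]

theorem ker_of_comm {φ T : Module.End ℤ_[p] M} (h : φ * T = T * φ) :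
    ∀ a ∈ LinearMap.ker T, φ a ∈ LinearMap.ker T := fun a ha => by
  rw [mem_ker, ← Module.End.mul_apply, ← h, Module.End.mul_apply, mem_ker.1 ha, map_zero]

theorem range_of_comm {φ T : Module.End ℤ_[p] M} (h : φ * T = T * φ) :
    ∀ a ∈ LinearMap.range T, φ a ∈ LinearMap.range T := by
  rintro _ ⟨m, rfl⟩
  exact ⟨φ m, by rw [← Module.End.mul_apply, ← h, Module.End.mul_apply]⟩

theorem conj_pow_of_norm {n : G} (hn : n ∈ Subgroup.normalizer (Subgroup.zpowers x : Set G)) :
    ∃ k : ℕ, n * x = x ^ k * n := by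
  obtain ⟨k, hk⟩ := mem_powers_iff_mem_zpowers.2
    ((Subgroup.mem_normalizer_iff.1 hn x).1 (Subgroup.mem_zpowers x))
  exact ⟨k, by rw [show x ^ k = n * x * n⁻¹ from hk, inv_mul_cancel_right]⟩

theorem norm_ker {n : G} (hn : n ∈ Subgroup.normalizer (Subgroup.zpowers x : Set G)) :
    ∀ a ∈ LinearMap.ker (ρ x - 1), ρ n a ∈ LinearMap.ker (ρ x - 1) := fun a ha => by
  obtain ⟨k, hk⟩ := conj_pow_of_norm (inv_mem hn)
  have h1 : x * n = n * x ^ k := by
    rw [← mul_inv_cancel_left n (x * n), ← mul_assoc n⁻¹, hk, inv_mul_cancel_right]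
  rw [mem_ker, LinearMap.sub_apply, ← Module.End.mul_apply, ← map_mul, h1, map_mul, map_pow,
    Module.End.mul_apply, pow_fix ha, Module.End.one_apply, sub_self]

theorem norm_range {n : G} (hn : n ∈ Subgroup.normalizer (Subgroup.zpowers x : Set G)) :
    ∀ a ∈ LinearMap.range (ρ x - 1), ρ n a ∈ LinearMap.range (ρ x - 1) := by
  rintro _ ⟨m, rfl⟩
  obtain ⟨k, hk⟩ := conj_pow_of_norm hn
  rw [LinearMap.sub_apply, Module.End.one_apply, map_sub, ← Module.End.mul_apply, ← map_mul, hk, map_mul,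
    map_pow, Module.End.mul_apply]
  exact pow_sub_mem _ _ _

section
variable (hx : x ^ p = 1)
include hx

theorem sub_mul_nm : (ρ x - 1) * Nm ρ x = 0 := by
  rw [nm_eq, mul_geom_sum, ← map_pow, hx, map_one, sub_self]

theorem nm_mul_sub : Nm ρ x * (ρ x - 1) = 0 := by
  rw [nm_eq, geom_sum_mul, ← map_pow, hx, map_one, sub_self]

theorem nm_mem (m : M) : Nm ρ x m ∈ LinearMap.ker (ρ x - 1) := by
  rw [mem_ker, ← Module.End.mul_apply, sub_mul_nm hx, LinearMap.zero_apply]

theorem nm_range {a : M} (h : a ∈ LinearMap.range (ρ x - 1)) : Nm ρ x a = 0 := by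
  obtain ⟨m, rfl⟩ := h
  rw [← Module.End.mul_apply, nm_mul_sub hx, LinearMap.zero_apply]

theorem norm_nm {n : G} (hn : n ∈ Subgroup.normalizer (Subgroup.zpowers x : Set G)) :
    ρ n * Nm ρ x = Nm ρ x * ρ n := by
  ext m
  have h1 := nm_fix (norm_ker hn _ (nm_mem (ρ := ρ) hx m))
  have h2 := nm_range hx (norm_range hn _ (geom_sub_mem (ρ x) p m))
  rw [← nm_eq, map_sub, map_sub, h1, map_smul, map_smul, sub_eq_zero] at h2
  exact p_cancel h2

theorem nm_inv : Nm ρ x⁻¹ = Nm ρ x := by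
  have h1 : ρ x * Nm ρ x = Nm ρ x := by
    have := sub_mul_nm (ρ := ρ) hx
    rwa [sub_mul, one_mul, sub_eq_zero] at this
  rw [← h1, Nm, Nm, ← sum_range_reflect (fun i => ρ (x ^ i)), mul_sum]
  refine sum_congr rfl fun i hi => ?_
  rw [← map_mul, ← pow_succ', inv_pow, inv_eq_of_mul_eq_one_right]
  rw [← pow_add, ← hx]
  congr 1
  have := mem_range.1 hi
  omega

end

theorem tate0 (hx : orderOf x = p) : Tate ρ x (LinearMap.ker (ρ x - 1)) (LinearMap.range (Nm ρ x)) := by
  have hx' : x ^ p = 1 := hx ▸ pow_orderOf_eq_one x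
  refine ⟨fun n hn => norm_ker hn, fun n hn => range_of_comm (norm_nm hx' hn), fun a ha => ?_, fun m hm => ?_,
    fun φ h => ker_of_comm (sub_comm' h), fun φ h => range_of_comm (nm_comm h), fun ψ a ha => ?_,
    fun m₀ h0 h1 => ?_⟩
  · rw [show ρ x a - a = 0 from ha]
    exact zero_mem _
  · refine ⟨m, nm_fix (p_cancel (p := p) ?_)⟩
    rw [← map_smul, smul_zero]
    exact hm
  · refine ⟨ψ a, ?_⟩
    rw [Nm, LinearMap.sum_apply]
    refine sum_congr rfl fun i _ => ?_
    have h2 : ρ (x ^ i)⁻¹ a = a := by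
      conv_lhs => rw [← pow_fix ha i, ← map_pow, ← Module.End.mul_apply, ← map_mul, inv_mul_cancel, map_one]
      rfl
    rw [h2]
  · obtain ⟨f, hf, hv⟩ := exists_form (Nm ρ x) m₀ fun m e => h1 ⟨m, p_cancel (e.symm.trans (nm_fix h0))⟩
    refine ⟨f.smulRight m₀, ?_, fun a _ => ⟨f a, by simp⟩, by simp [hv]⟩
    ext m
    have h2 := hf _ (nm_range hx' ⟨m, rfl⟩)
    rw [LinearMap.sub_apply, Module.End.one_apply, map_sub, sub_eq_zero] at h2
    simp only [Module.End.mul_apply, smulRight_apply, h2, map_smul, show ρ x m₀ = m₀ from sub_eq_zero.1 h0]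

theorem wt_sum (W : Module.End ℤ_[p] M) (n : ℕ) : (W - 1) * ∑ i ∈ range n, (i : ℤ_[p]) • W ^ i =
    (n : ℤ_[p]) • W ^ n - W * ∑ i ∈ range n, W ^ i := by
  induction n with
  | zero => simp
  | succ n ih =>
    rw [sum_range_succ, sum_range_succ, mul_add, ih, mul_add, mul_smul_comm, sub_mul, one_mul, ← pow_succ',
      Nat.cast_succ, add_smul, one_smul, smul_sub]
    abel

theorem tate1 (hx : orderOf x = p) : Tate ρ x (LinearMap.ker (Nm ρ x)) (LinearMap.range (ρ x - 1)) := by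
  have hx' : x ^ p = 1 := hx ▸ pow_orderOf_eq_one x
  have hi : x⁻¹ ^ p = 1 := by rw [inv_pow, hx', inv_one]
  refine ⟨fun n hn => ker_of_comm (norm_nm hx' hn), fun n hn => norm_range hn, fun a _ => ⟨a, rfl⟩,
    fun m hm => ?_, fun φ h => ker_of_comm (nm_comm h), fun φ h => range_of_comm (sub_comm' h),
    fun ψ a ha => ?_, fun m₀ h0 h1 => ?_⟩
  · have h1 : Nm ρ x m = 0 := p_cancel (p := p) (by rw [← map_smul, smul_zero]; exact hm)
    have h2 := neg_mem (geom_sub_mem (ρ x) p m)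
    rwa [← nm_eq, h1, zero_sub, neg_neg] at h2
  · have h1 := Submodule.sum_mem _ fun i (_ : i ∈ range p) => pow_sub_mem (ρ x) i (ψ (ρ (x ^ i)⁻¹ a))
    have h2 : ∑ i ∈ range p, ψ (ρ (x ^ i)⁻¹ a) = 0 := by
      have h3 : Nm ρ x⁻¹ a = 0 := by rw [nm_inv hx']; exact ha
      rw [← map_sum, ← map_zero ψ, ← h3, Nm, LinearMap.sum_apply]
      simp only [inv_pow]
    rw [sum_sub_distrib, h2, sub_zero] at h1
    simpa only [map_pow] using h1
  · set W := ρ x⁻¹ with hW
    have hWX : W * ρ x = 1 := by rw [hW, ← map_mul, inv_mul_cancel, map_one]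
    have hXW : ρ x * W = 1 := by rw [hW, ← map_mul, mul_inv_cancel, map_one]
    have hWp : W ^ p = 1 := by rw [hW, ← map_pow, hi, map_one]
    have hN : ∑ i ∈ range p, W ^ i = Nm ρ x := by rw [← nm_inv hx', nm_eq]
    have h0' : Nm ρ x m₀ = 0 := h0
    obtain ⟨f, hf, hv⟩ := exists_form (W - 1) ((∑ i ∈ range p, (i : ℤ_[p]) • W ^ i) m₀) fun m e => h1 (by
      rw [← Module.End.mul_apply, wt_sum, hWp, hN, LinearMap.sub_apply, Module.End.mul_apply, h0', map_zero,
        sub_zero, LinearMap.smul_apply, Module.End.one_apply] at e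
      refine ⟨-W m, ?_⟩
      rw [p_cancel e, map_neg, LinearMap.sub_apply, LinearMap.sub_apply, ← Module.End.mul_apply, hXW]
      simp)
    have hfN : ∀ m, ∑ i ∈ range p, f ((W ^ i) m) = 0 := fun m => by
      rw [← map_sum, ← LinearMap.sum_apply]
      apply hf
      rw [← Module.End.mul_apply, mul_geom_sum, hWp, sub_self, LinearMap.zero_apply]
    let S : ℕ → M := fun i => (∑ j ∈ range i, ρ x ^ j) m₀
    have hS : ∀ i, ρ x (S i) = S (i + 1) - m₀ := fun i => by
      simp only [S, geom_sum_succ, LinearMap.add_apply, Module.End.mul_apply, Module.End.one_apply,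
        add_sub_cancel_right]
    let φ : Module.End ℤ_[p] M := ∑ i ∈ range p, (f ∘ₗ (W ^ i)).smulRight (S i)
    have hφ : ∀ m, φ m = ∑ i ∈ range p, f ((W ^ i) m) • S i := fun m => by
      simp only [φ, LinearMap.sum_apply, smulRight_apply, LinearMap.comp_apply]
    have key : ∀ m, φ m - f ((∑ i ∈ range p, (i : ℤ_[p]) • W ^ i) m) • m₀ ∈ LinearMap.range (ρ x - 1) := fun m => by
      have h2 := Submodule.sum_mem _ fun i (_ : i ∈ range p) =>
        Submodule.smul_mem _ (f ((W ^ i) m)) (geom_sub_mem (ρ x) i m₀)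
      rw [hφ, LinearMap.sum_apply, map_sum, sum_smul, ← sum_sub_distrib]
      convert h2 using 2 with i _
      simp only [S, LinearMap.smul_apply, map_smul, smul_sub, smul_smul, smul_eq_mul, mul_comm]
    refine ⟨φ, ?_, fun a _ => ⟨_, key a⟩, by simpa only [hv, one_smul] using key m₀⟩
    ext m
    have h2 := sum_range_succ' (fun i => f ((W ^ i) (ρ x m)) • S i) p
    have h3 : S p = 0 := by simp only [S, ← nm_eq, h0']
    have h4 : S 0 = 0 := by simp [S]
    rw [sum_range_succ, h3, h4, smul_zero, smul_zero, add_zero, add_zero] at h2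
    rw [Module.End.mul_apply, Module.End.mul_apply, hφ, hφ, h2, map_sum]
    simp only [map_smul, hS, smul_sub, sum_sub_distrib, ← sum_smul, hfN, zero_smul, sub_zero]
    refine sum_congr rfl fun i _ => ?_
    rw [pow_succ, ← Module.End.mul_apply, mul_assoc, hWX, mul_one]

end Cfsg.Agent.BT
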