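import Cfsg.Agent.BT.Lat
import Cfsg.Agent.BT.Dim
import Cfsg.Agent.BT.Tate

/-! Traces on a summand with trivial Tate cohomology, and the passage to the character. -/

set_option autoImplicit false
set_option linter.unusedSectionVars false

namespace Cfsg.Agent.BT

open Cfsg.Agent.M11 Cfsg.Agent.Char Cfsg.Agent.MK Cfsg.Agent.Zass LinearMap Module Submodule
  TensorProduct

section gen
variable {R M G : Type*} [CommRing R] [AddCommGroup M] [Module R M] [Group G]

theorem tr_idem [IsDomain R] [IsPrincipalIdealRing R] [Module.Free R M] [Module.Finite R M] {p : ℕ}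
    {T η : End R M} (hT : T ^ p = 1) (hη : η * η = η) (hc : η * T = T * η) :
    ∃ T' : End R (range η), (∀ (i : ℕ) m, ((T' ^ i) m : M) = (T ^ i) m) ∧ T' ^ p = 1 ∧
      trace R M ((∑ i ∈ Finset.range p, T ^ i) * η) = p * finrank R (ker (T' - 1)) ∧
      trace R M η = finrank R (range η) := by
  have h1 : ∀ a ∈ range η, T a ∈ range η := by
    rintro _ ⟨m, rfl⟩
    exact ⟨T m, LinearMap.congr_fun hc m⟩
  have h2 : ∀ (i : ℕ) m, ((T.restrict h1 ^ i) m : M) = (T ^ i) m := fun i => by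
    induction i with
    | zero => intro m; rfl
    | succ i ih => intro m; rw [pow_succ, pow_succ, End.mul_apply, End.mul_apply, ih]; rfl
  have h3 : T.restrict h1 ^ p = 1 := LinearMap.ext fun m => Subtype.ext (by rw [h2, hT]; rfl)
  have h4 : ∀ m : range η, η m = m := by
    rintro ⟨_, m, rfl⟩
    exact LinearMap.congr_fun hη m
  have h5 : ∀ m, ((∑ i ∈ Finset.range p, T ^ i) * η) m ∈ range η := fun m => by
    rw [End.mul_apply, LinearMap.sum_apply]
    exact sum_mem fun i _ => h2 i ⟨_, m, rfl⟩ ▸ Subtype.property _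
  refine ⟨_, h2, h3, ?_, ?_⟩
  · rw [← lat_trace _ h3, ← trace_restrict_eq_of_forall_mem _ _ h5]
    congr 1
    refine LinearMap.ext fun m => Subtype.ext ?_
    simp only [coe_restrict_apply, End.mul_apply, h4, LinearMap.sum_apply, Submodule.coe_sum, h2]
  · rw [← trace_restrict_eq_of_forall_mem (range η) η fun m => ⟨m, rfl⟩, ← trace_one]
    congr 1
    exact LinearMap.ext fun m => Subtype.ext (h4 m)

theorem avg_idem (σ : G →* End R M) (Q : Subgroup G) [Fintype Q] {u : R} (hu : u * Nat.card Q = 1) :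
    (u • ∑ q : Q, σ q) * (u • ∑ q : Q, σ q) = u • ∑ q : Q, σ q := by
  have h : ∀ r : Q, σ r * ∑ q : Q, σ q = ∑ q : Q, σ q := fun r => by
    rw [Finset.mul_sum]
    exact Fintype.sum_equiv (Equiv.mulLeft r) _ _ fun q => by simp
  rw [smul_mul_smul_comm, Finset.sum_mul, Finset.sum_congr rfl fun r _ => h r, Finset.sum_const,
    Finset.card_univ, ← Nat.card_eq_fintype_card, ← Nat.cast_smul_eq_nsmul R, smul_smul, mul_assoc, hu,
    mul_one]

theorem avg_comm (σ : G →* End R M) (Q : Subgroup G) [Fintype Q] {n : G}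
    (hn : n ∈ Subgroup.normalizer (Q : Set G)) (u : R) :
    (u • ∑ q : Q, σ q) * σ n = σ n * (u • ∑ q : Q, σ q) := by
  rw [smul_mul_assoc, mul_smul_comm, Finset.mul_sum, Finset.sum_mul]
  congr 1
  refine (Fintype.sum_equiv (Q.normalizerMonoidHom ⟨n, hn⟩).toEquiv _ _ fun q => ?_).symm
  rw [← map_mul, ← map_mul]
  congr 1
  simp

theorem sum_ico (σ : G →* End R M) (x : G) {p : ℕ} (hp : 0 < p) {ι : Type*} (s : Finset ι) (f : ι → G) :
    ∑ q ∈ s, ∑ i ∈ Finset.Ico 1 p, σ (x ^ i * f q) =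
      (∑ i ∈ Finset.range p, σ x ^ i) * ∑ q ∈ s, σ (f q) - ∑ q ∈ s, σ (f q) := by
  rw [Finset.range_eq_Ico, Finset.sum_eq_sum_Ico_succ_bot hp, pow_zero, add_mul, one_mul,
    add_sub_cancel_left, Finset.sum_mul_sum, Finset.sum_comm]
  simp only [map_mul, map_pow, zero_add]

end gen

section dim
variable {p : ℕ} [hp : Fact p.Prime] {G : Type*} [Group G] {M : Type*} [AddCommGroup M]
  [Module ℤ_[p] M] [Module.Free ℤ_[p] M] [Module.Finite ℤ_[p] M] {ρ : G →* Module.End ℤ_[p] M} {x : G}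

attribute [local instance] redAlg

theorem dim0z (hx : x ^ p = 1) (h : ker (ρ x - 1) ≤ range (Nm ρ x)) :
    p * finrank ℤ_[p] (ker (ρ x - 1)) ≤ finrank ℤ_[p] M := by
  obtain ⟨h1, h2⟩ := red_pow (ρ := ρ) hx
  have h3 := rk_low _ h2
  rw [← h1, finrank_baseChange, Nat.sub_add_cancel hp.out.one_le] at h3
  obtain ⟨s, hs⟩ := (ρ x - 1).rangeRestrict.exists_rightInverse_of_surjective (range_rangeRestrict _)
  let P : M →ₗ[ℤ_[p]] ker (ρ x - 1) := (LinearMap.id - s ∘ₗ (ρ x - 1).rangeRestrict).codRestrict _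
    fun m => by
      rw [mem_ker, sub_apply LinearMap.id, map_sub, sub_eq_zero]
      exact (congrArg Subtype.val (LinearMap.congr_fun hs ((ρ x - 1).rangeRestrict m))).symm
  have hP : P ∘ₗ (ker (ρ x - 1)).subtype = LinearMap.id := LinearMap.ext fun a => Subtype.ext (by
    have : (ρ x - 1).rangeRestrict a.1 = 0 := Subtype.ext a.2
    simp [P, this])
  have h4 : Function.Injective ((ker (ρ x - 1)).subtype.baseChange (ZMod p)) :=
    Function.LeftInverse.injective (g := P.baseChange (ZMod p)) fun v => by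
      rw [← comp_apply, ← baseChange_comp, hP, baseChange_id, id_apply]
  have h5 : range ((ker (ρ x - 1)).subtype.baseChange (ZMod p)) ≤
      range ((Nm ρ x).baseChange (ZMod p)) := by
    rintro _ ⟨v, rfl⟩
    induction v with
    | zero => simp
    | add a b ha hb => rw [map_add]; exact add_mem ha hb
    | tmul t a =>
      obtain ⟨m, e⟩ := h a.2
      exact ⟨t ⊗ₜ m, by rw [baseChange_tmul, baseChange_tmul, subtype_apply, e]⟩
  have h6 := finrank_mono h5
  rw [finrank_range_of_inj h4, finrank_baseChange] at h6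
  exact (Nat.mul_le_mul_left _ h6).trans h3

theorem dim1z (hx : x ^ p = 1) (h : ker (Nm ρ x) ≤ range (ρ x - 1)) :
    finrank ℤ_[p] M ≤ p * finrank ℤ_[p] (ker (ρ x - 1)) := by
  have h3 := rk_high _ (red_pow (ρ := ρ) hx).2
  rw [finrank_baseChange, Nat.sub_add_cancel hp.out.one_le] at h3
  obtain ⟨s, hs⟩ := (Nm ρ x).rangeRestrict.exists_rightInverse_of_surjective (range_rangeRestrict _)
  have h4 : range (Nm ρ x) ≤ ker (ρ x - 1) := by
    rintro _ ⟨m, rfl⟩
    rw [mem_ker, ← End.mul_apply, Nm]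
    simp only [map_pow]
    rw [mul_geom_sum, ← map_pow, hx, map_one, sub_self, LinearMap.zero_apply]
  have h5 : ⊤ ≤ range (s.baseChange (ZMod p)) ⊔ range ((ρ x - 1).baseChange (ZMod p)) := by
    rintro v -
    induction v with
    | zero => simp
    | add a b ha hb => exact add_mem ha hb
    | tmul t a =>
      obtain ⟨m, e⟩ := h (x := a - s ((Nm ρ x).rangeRestrict a)) (by
        rw [mem_ker, map_sub, sub_eq_zero]
        exact (congrArg Subtype.val (LinearMap.congr_fun hs ((Nm ρ x).rangeRestrict a))).symm)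
      rw [eq_add_of_sub_eq' e.symm, tmul_add]
      exact add_mem_sup ⟨t ⊗ₜ _, baseChange_tmul _ _ _⟩ ⟨t ⊗ₜ m, baseChange_tmul _ _ _⟩
  have h6 := (finrank_mono h5).trans (finrank_add_le_finrank_add_finrank _ _)
  have h8 := finrank_range_le (s.baseChange (ZMod p))
  have h9 := finrank_range_add_finrank_ker ((ρ x - 1).baseChange (ZMod p))
  have h10 := finrank_mono h4
  rw [finrank_baseChange] at h8
  rw [finrank_top] at h6
  exact h3.trans (Nat.mul_le_mul_left _ (by omega))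

theorem tr_kill (hx : x ^ p = 1) {η : End ℤ_[p] M} (hη : η * η = η) (hc : η * ρ x = ρ x * η)
    (h0 : ∀ a ∈ ker (ρ x - 1), η a ∈ range (Nm ρ x))
    (h1 : ∀ a ∈ ker (Nm ρ x), η a ∈ range (ρ x - 1)) :
    trace ℤ_[p] M ((∑ i ∈ Finset.range p, ρ x ^ i) * η) = trace ℤ_[p] M η := by
  obtain ⟨T, h2, h3, h4, h5⟩ := tr_idem (T := ρ x) (p := p) (by rw [← map_pow, hx, map_one]) hη hc
  let U := Units.ofPowEqOne T p h3 hp.out.ne_zero
  have hU : Units.coeHom _ U = T := rfl
  have hU1 : U ^ p = 1 := Units.pow_ofPowEqOne _ _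
  have hN : ∀ m, (Nm (Units.coeHom _) U m : M) = Nm ρ x m := fun m => by
    simp only [Nm, map_pow, hU, LinearMap.sum_apply, Submodule.coe_sum, h2]
  have hT : ∀ m, ((Units.coeHom _ U - 1 :) m : M) = (ρ x - 1) m := fun m => by
    simpa [hU] using h2 1 m
  have h6 : ∀ m : range η, η m = m := by
    rintro ⟨_, m, rfl⟩
    exact LinearMap.congr_fun hη m
  have h7 : η * Nm ρ x = Nm ρ x * η := by
    simp only [Nm, map_pow]
    exact Commute.sum_right _ _ _ fun i _ => (show Commute η (ρ x) from hc).pow_right i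
  have h8 : η * (ρ x - 1) = (ρ x - 1) * η := by rw [mul_sub, sub_mul, hc, mul_one, one_mul]
  have h9 := dim0z (ρ := Units.coeHom _) hU1 fun a ha => by
    obtain ⟨m, e⟩ := h0 a (by rw [mem_ker, ← hT, mem_ker.1 ha]; rfl)
    exact ⟨⟨_, m, rfl⟩, Subtype.ext (by rw [hN, ← End.mul_apply, ← h7, End.mul_apply, e, h6, h6])⟩
  have h10 := dim1z (ρ := Units.coeHom _) hU1 fun a ha => by
    obtain ⟨m, e⟩ := h1 a (by rw [mem_ker, ← hN, mem_ker.1 ha]; rfl)
    exact ⟨⟨_, m, rfl⟩, Subtype.ext (by rw [hT, ← End.mul_apply, ← h8, End.mul_apply, e, h6, h6])⟩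
  rw [h4, h5, ← le_antisymm h9 h10, hU, Nat.cast_mul]

end dim

variable {p : ℕ} [Fact p.Prime] {G : Type*} [Group G] [Finite G]

theorem exists_lat2 {χ : G → ℂ} (hχ : IsIrrCharacter G χ) {ι : Type*} (u : ι → ℕ → G) :
    ∃ (M : Type) (_ : AddCommGroup M) (_ : Module ℤ_[p] M) (_ : Module.Free ℤ_[p] M)
      (_ : Module.Finite ℤ_[p] M) (σ : G →* End ℤ_[p] M), Indec σ ∧ finrank ℤ_[p] M ≠ 0 ∧
      ∀ (s : Finset ι) (t : Finset ℕ) (a : ℤ), ∑ q ∈ s, ∑ i ∈ t, χ (u q i) = a →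
        (deg χ : ℤ_[p]) * trace ℤ_[p] M (∑ q ∈ s, ∑ i ∈ t, σ (u q i)) = finrank ℤ_[p] M * a := by
  classical
  have := Fintype.ofFinite G
  obtain ⟨k, τ, hτ, rfl⟩ := hχ
  obtain ⟨hnt, hirr⟩ := (isIrreducible_iff τ).1 hτ
  have hk : deg τ.character = k := deg_of_eq (by simp)
  obtain ⟨j, hι⟩ := exists_iota p
  let _ : Algebra ℤ_[p] ℂ := j.toAlgebra
  have : FaithfulSMul ℤ_[p] ℂ := (faithfulSMul_iff_algebraMap_injective _ _).2 hι
  let P : ℕ → Prop := fun n => ∃ M : Submodule ℤ_[p] (Fin k → ℂ), M.FG ∧ M ≠ ⊥ ∧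
    (∀ g, ∀ v ∈ M, τ g v ∈ M) ∧ finrank ℤ_[p] M = n
  have hP : ∃ n, P n := by
    obtain ⟨v, hv⟩ := exists_ne (0 : Fin k → ℂ)
    refine ⟨_, Submodule.span ℤ_[p] (Set.range fun g => τ g v), Submodule.fg_span (Set.finite_range _),
      fun e => hv ?_, fun g w hw => ?_, rfl⟩
    · simpa using Submodule.span_eq_bot.1 e _ ⟨1, rfl⟩
    · refine Submodule.mem_comap.1 ((Submodule.span_le
        (p := Submodule.comap ((τ g).restrictScalars ℤ_[p]) _)).2 ?_ hw)
      rintro _ ⟨h, rfl⟩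
      exact Submodule.subset_span ⟨g * h, by simp⟩
  obtain ⟨M, hfg, hne, hst, hn⟩ := Nat.find_spec hP
  have : Module.Finite ℤ_[p] M := Module.Finite.iff_fg.2 hfg
  let σ : G →* End ℤ_[p] M :=
    { toFun := fun g => ((τ g).restrictScalars ℤ_[p]).restrict (hst g)
      map_one' := LinearMap.ext fun m => Subtype.ext (by simp)
      map_mul' := fun g h => LinearMap.ext fun m => Subtype.ext (LinearMap.congr_fun (map_mul τ g h) _) }
  have hσ : ∀ g (m : M), (σ g m : Fin k → ℂ) = τ g m := fun _ _ => rfl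
  have hind : Indec σ := fun ε h1 h2 => or_iff_not_imp_left.2 fun h0 => by
    have h3 : Nat.find hP ≤ finrank ℤ_[p] (range ε) := Nat.find_min' hP ⟨(range ε).map M.subtype,
      (Module.Finite.iff_fg.1 inferInstance).map _, fun e => h0 (LinearMap.ext fun m =>
        Subtype.ext ((Submodule.eq_bot_iff _).1 e _ ⟨_, ⟨m, rfl⟩, rfl⟩)), by
        rintro g _ ⟨_, ⟨m, rfl⟩, rfl⟩
        exact ⟨_, ⟨σ g m, rfl⟩, congrArg Subtype.val (LinearMap.congr_fun (h1 g) m)⟩,
      Submodule.finrank_map_subtype_eq _ _⟩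
    have h4 := (ker ε).finrank_quotient_add_finrank
    rw [ε.quotKerEquivRange.finrank_eq] at h4
    have h5 : ker ε = ⊥ := Submodule.finrank_eq_zero.1 (by omega)
    refine LinearMap.ext fun m => ker_eq_bot.1 h5 ?_
    exact LinearMap.congr_fun h2 m
  refine ⟨M, inferInstance, inferInstance, inferInstance, this, σ, hind,
    mt Submodule.finrank_eq_zero.1 hne, fun s t a ha => ?_⟩
  let z : End ℂ (Fin k → ℂ) := ∑ g, τ g * (∑ q ∈ s, ∑ i ∈ t, τ (u q i)) * τ g⁻¹
  obtain ⟨c, hc⟩ := End.exists_eigenvalue z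
  have h1 : z.eigenspace c = ⊤ := (hirr _ fun g w hw => by
    rw [End.mem_eigenspace_iff] at hw ⊢
    rw [← map_smul, ← hw, ← End.mul_apply, ← End.mul_apply]
    congr 1
    simp only [z, Finset.sum_mul _ _ (τ g), Finset.mul_sum _ _ (τ g)]
    refine (Fintype.sum_equiv (Equiv.mulLeft g) _ _ fun h => ?_).symm
    simp only [Equiv.coe_mulLeft, mul_inv_rev, map_mul, mul_assoc]
    rw [← map_mul τ g⁻¹, inv_mul_cancel, map_one, mul_one]).resolve_left hc
  have h2 : z = c • 1 := LinearMap.ext fun v => End.mem_eigenspace_iff.1 (h1.ge trivial)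
  have h3 := lat_avg τ (∑ q ∈ s, ∑ i ∈ t, τ (u q i))
  have t1 : trace ℂ _ (∑ q ∈ s, ∑ i ∈ t, τ (u q i)) = a := by
    simp only [← ha, map_sum]; rfl
  change trace ℂ _ z = _ at h3
  rw [h2, t1, map_smul, trace_one, finrank_fin_fun, smul_eq_mul] at h3
  have h4 : (k : ℤ) • ∑ g, σ g * (∑ q ∈ s, ∑ i ∈ t, σ (u q i)) * σ g⁻¹ =
      (Fintype.card G * a : ℤ) • 1 := LinearMap.ext fun m => Subtype.ext (by
    have : ((∑ g, σ g * (∑ q ∈ s, ∑ i ∈ t, σ (u q i)) * σ g⁻¹) m : Fin k → ℂ) = z m := by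
      simp only [z, LinearMap.sum_apply, End.mul_apply, Submodule.coe_sum, hσ]
    rw [LinearMap.smul_apply, Submodule.coe_smul_of_tower, this, h2, LinearMap.smul_apply,
      LinearMap.smul_apply, Submodule.coe_smul_of_tower, ← Int.cast_smul_eq_zsmul ℂ,
      ← Int.cast_smul_eq_zsmul ℂ, smul_smul, mul_comm, Int.cast_natCast, h3]
    simp)
  have h5 := congrArg (trace ℤ_[p] M) h4
  rw [map_zsmul, map_zsmul, lat_avg, trace_one, zsmul_eq_mul, zsmul_eq_mul] at h5
  refine mul_left_cancel₀ (Nat.cast_ne_zero.2 (Fintype.card_ne_zero (α := G))) ?_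
  push_cast at h5
  rw [hk]
  linear_combination h5

end Cfsg.Agent.BT
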