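import Cfsg.Agent.BT.Def
import Cfsg.Agent.MK.Loc1

/-! The trace of a rank one endomorphism shows that the Tate groups are cyclic. -/

set_option autoImplicit false
set_option linter.unusedSectionVars false

namespace Cfsg.Agent.BT

open Finset Subgroup Cfsg.Agent.M11 Cfsg.Agent.MK Polynomial

variable {p : ℕ} [hp : Fact p.Prime] {G : Type*} [Group G] [Finite G] {M : Type*} [AddCommGroup M]
  [Module ℤ_[p] M] {ρ : G →* Module.End ℤ_[p] M} {x : G}

theorem c5_poly : ∃ Q : ℤ[X], ((List.range p).map fun c : ℕ => (X - C (c : ℤ) : ℤ[X])).prod =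
    X ^ p - X + C (p : ℤ) * Q := by
  have h1 : (∏ c ∈ range p, (X - C (c : ZMod p)) : (ZMod p)[X]) = X ^ p - X := by
    have h2 := FiniteField.roots_X_pow_card_sub_X (ZMod p)
    rw [ZMod.card] at h2
    have h3 : (X ^ p - X : (ZMod p)[X]).Monic := monic_X_pow_sub (by simpa using hp.out.one_lt)
    rw [← prod_multiset_X_sub_C_of_monic_of_roots_card_eq h3 (by
      rw [h2, FiniteField.X_pow_card_sub_X_natDegree_eq _ hp.out.one_lt]; simp), h2]
    exact Finset.prod_bij (fun c _ => (c : ZMod p)) (fun _ _ => mem_univ _)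
      (fun a ha b hb e => Nat.ModEq.eq_of_lt_of_lt ((ZMod.natCast_eq_natCast_iff _ _ _).1 e)
        (mem_range.1 ha) (mem_range.1 hb))
      (fun b _ => ⟨b.val, mem_range.2 b.val_lt, ZMod.natCast_zmod_val b⟩) fun _ _ => rfl
  have h4 : C (p : ℤ) ∣ ((List.range p).map fun c : ℕ => (X - C (c : ℤ) : ℤ[X])).prod - (X ^ p - X) := by
    have h5 : (((List.range p).map fun c : ℕ => (X - C (c : ℤ) : ℤ[X])).prod - (X ^ p - X)).map
        (Int.castRingHom (ZMod p)) = 0 := by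
      rw [Polynomial.map_sub, Polynomial.map_list_prod, List.map_map, sub_eq_zero]
      simp only [Polynomial.map_sub, Polynomial.map_pow, map_X, ← h1]
      rw [Finset.prod_eq_multiset_prod, Finset.range_val, Multiset.range, Multiset.map_coe, Multiset.prod_coe]
      congr 2
      ext1 c
      simp
    refine (Polynomial.C_dvd_iff_dvd_coeff _ _).2 fun i => (ZMod.intCast_zmod_eq_zero_iff_dvd _ p).1 ?_
    have := congrArg (coeff · i) h5
    simpa only [coeff_map, coeff_zero, eq_intCast] using this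
  obtain ⟨Q, hQ⟩ := h4
  exact ⟨Q, by rw [← hQ]; ring⟩

theorem c5_eig {T : Module.End ℤ_[p] M} {A B : Submodule ℤ_[p] M} (hA : ∀ a ∈ A, T a ∈ A) {a : M}
    (ha : a ∈ A) (hn : a ∉ B) (l : List ℕ) :
    (l.map fun c : ℕ => T - (c : Module.End ℤ_[p] M)).prod a ∈ A ∧
    ((l.map fun c : ℕ => T - (c : Module.End ℤ_[p] M)).prod a ∈ B →
      ∃ m ∈ A, m ∉ B ∧ ∃ c : ℤ_[p], T m - c • m ∈ B) := by
  induction l with
  | nil => exact ⟨ha, fun h => absurd h hn⟩
  | cons c l ih =>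
    simp only [List.map_cons, List.prod_cons, Module.End.mul_apply, LinearMap.sub_apply,
      Module.End.natCast_apply]
    refine ⟨sub_mem (hA _ ih.1) (nsmul_mem ih.1 c), fun h => ?_⟩
    by_cases h2 : (l.map fun c : ℕ => T - (c : Module.End ℤ_[p] M)).prod a ∈ B
    · exact ih.2 h2
    · exact ⟨_, ih.1, h2, c, by rwa [Nat.cast_smul_eq_nsmul]⟩

theorem c5_free {α V : Type*} [MulAction G α] [AddCommGroup V] [DecidableEq α] (hx : orderOf x = p)
    (B : AddSubgroup V) (f : α → V) (n : ℕ) : ∀ Y : Finset α, Y.card = n → (∀ q ∈ Y, x • q ∈ Y) →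
      (∀ q ∈ Y, x • q ≠ q) → (∀ q ∈ Y, ∑ i ∈ range p, f (x ^ i • q) ∈ B) → ∑ q ∈ Y, f q ∈ B := by
  induction n using Nat.strong_induction_on with
  | _ n ih =>
  intro Y hn h1 h2 h3
  rcases Y.eq_empty_or_nonempty with rfl | ⟨q, hq⟩
  · simp
  have hm : ∀ i : ℕ, x ^ i • q ∈ Y := fun i => by
    induction i with
    | zero => simpa using hq
    | succ i ih => rw [pow_succ', mul_smul]; exact h1 _ ih
  let O := (range p).image fun i => x ^ i • q
  have hO : O ⊆ Y := image_subset_iff.2 fun i _ => hm i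
  have hper : MulAction.period x q = p := by
    have h4 := hx ▸ MulAction.period_dvd_orderOf x q
    refine ((Nat.dvd_prime hp.out).1 h4).resolve_left fun e => h2 q hq ?_
    exact MulAction.period_eq_one_iff.1 e
  have hinj : Set.InjOn (fun i => x ^ i • q) (range p : Finset ℕ) := fun i hi j hj e => by
    refine Nat.ModEq.eq_of_lt_of_lt ?_ (mem_range.1 hi) (mem_range.1 hj)
    rw [← hper]
    have key : ∀ i j, i ≤ j → x ^ i • q = x ^ j • q → i ≡ j [MOD MulAction.period x q] := fun i j hij e => by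
      obtain ⟨k, rfl⟩ := Nat.exists_eq_add_of_le hij
      rw [pow_add, mul_smul, smul_left_cancel_iff, eq_comm] at e
      exact (Nat.modEq_iff_dvd' hij).2 (by simpa using MulAction.pow_smul_eq_iff_period_dvd.1 e)
    rcases le_total i j with h | h
    exacts [key i j h e, (key j i h e.symm).symm]
  rw [← sum_sdiff hO]
  refine add_mem (ih _ ?_ _ rfl (fun r hr => ?_) (fun r hr => h2 r (mem_sdiff.1 hr).1)
    fun r hr => h3 r (mem_sdiff.1 hr).1) (by rw [sum_image hinj]; exact h3 q hq)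
  · rw [← hn]
    exact card_lt_card (sdiff_ssubset hO ⟨_, mem_image_of_mem _ (mem_range.2 hp.out.pos)⟩)
  · refine mem_sdiff.2 ⟨h1 r (mem_sdiff.1 hr).1, fun h => (mem_sdiff.1 hr).2 ?_⟩
    obtain ⟨i, -, hi⟩ := mem_image.1 h
    refine mem_image.2 ⟨(i + (p - 1)) % p, mem_range.2 (Nat.mod_lt _ hp.out.pos), ?_⟩
    rw [← hx, pow_mod_orderOf, add_comm, pow_add, mul_smul, hi, ← mul_smul, ← pow_succ,
      Nat.sub_add_cancel (orderOf_pos x), pow_orderOf_eq_one, one_smul]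

theorem c5_gen (hx : orderOf x = p) : ∃ t ∈ normalizer (zpowers x : Set G),
    t ^ (p - 1) ∈ centralizer ({x} : Set G) ∧
    ∀ n ∈ normalizer (zpowers x : Set G), ∃ k : ℕ, (t ^ k)⁻¹ * n ∈ centralizer ({x} : Set G) := by
  have hc : Nat.card (zpowers x) = p := by rw [Nat.card_zpowers, hx]
  let f := (zpowers x).normalizerMonoidHom
  have : IsCyclic (MulAut (zpowers x)) := by
    have e := IsCyclic.mulAutMulEquiv (zpowers x)
    rw [hc] at e
    exact isCyclic_of_surjective e.symm e.symm.surjective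
  have hk : ∀ n : normalizer (zpowers x : Set G), f n = 1 → (n : G) ∈ centralizer ({x} : Set G) := fun n h => by
    have h1 : n ∈ f.ker := h
    rw [normalizerMonoidHom_ker, mem_subgroupOf, cen_zp] at h1
    exact h1
  obtain ⟨⟨_, t, rfl⟩, hg⟩ := IsCyclic.exists_monoid_generator (α := f.range)
  refine ⟨t, t.2, hk (t ^ (p - 1)) ?_, fun n hn => ?_⟩
  · rw [map_pow, ← Nat.totient_prime hp.out, ← hc, ← IsCyclic.card_mulAut, pow_card_eq_one']
  · obtain ⟨k, e⟩ := hg ⟨f ⟨n, hn⟩, _, rfl⟩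
    refine ⟨k, hk ((t ^ k)⁻¹ * ⟨n, hn⟩) ?_⟩
    rw [map_mul, map_inv, map_pow, inv_mul_eq_one]
    exact congrArg Subtype.val e

theorem line5 {e : ℕ}
    (loc : ∀ (Φ : Module.End ℤ_[p] M), (∀ g, Φ * ρ g = ρ g * Φ) →
      ∃ k, 0 < k ∧ ((∀ m, ∃ m', (Φ ^ k) m = (p : ℤ_[p]) • m') ∨
        ∀ m, ∃ m', (Φ ^ k) m - m = (p : ℤ_[p]) • m'))
    (hx : LD p e 1 x) {A B : Submodule ℤ_[p] M} (hT : Tate ρ x A B) : Line A B := by
  classical
  by_cases hAB : A ≤ B
  · exact ⟨0, zero_mem _, fun a ha => ⟨0, by simpa using hAB ha⟩⟩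
  obtain ⟨a₀, ha₀, hn₀⟩ := SetLike.not_le_iff_exists.1 hAB
  have hC : zpowers x = centralizer {x} := eq_of_le_of_card_ge
    (zpowers_le.2 (mem_centralizer_singleton_iff.2 rfl))
    (by rw [Nat.card_zpowers, hx.ord, ← cc, hx.ccx, mul_one])
  have hxN : x ∈ normalizer (zpowers x : Set G) := le_normalizer (mem_zpowers x)
  have hfix : ∀ c ∈ centralizer ({x} : Set G), ∀ a ∈ A, ρ c a - a ∈ B := fun c hc a ha => by
    obtain ⟨k, rfl⟩ := mem_powers_iff_mem_zpowers.2 (hC ▸ hc)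
    show ρ (x ^ k) a - a ∈ B
    clear hc
    induction k with
    | zero => simp
    | succ k ih =>
      have h1 := add_mem (hT.fix _ (hT.nA _ (pow_mem hxN k) a ha)) ih
      rwa [sub_add_sub_cancel, ← Module.End.mul_apply, ← map_mul, ← pow_succ'] at h1
  obtain ⟨t, ht, htp, hgen⟩ := c5_gen hx.ord
  obtain ⟨m₀, hm₀, hmB, c, hc⟩ : ∃ m ∈ A, m ∉ B ∧ ∃ c : ℤ_[p], ρ t m - c • m ∈ B := by
    obtain ⟨h1, h2⟩ := c5_eig (hT.nA t ht) ha₀ hn₀ (List.range p)
    obtain ⟨Q, hQ⟩ := c5_poly (p := p)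
    have h3 := congrArg (aeval (ρ t)) hQ
    rw [map_list_prod, List.map_map] at h3
    simp only [Function.comp_def, map_sub, aeval_X, map_natCast, map_add, map_pow, map_mul, eq_intCast,
      Int.cast_natCast] at h3
    rw [h3] at h1 h2
    have h4 : (ρ t ^ p - ρ t) a₀ ∈ B := by
      have h5 := hfix _ htp _ (hT.nA t ht a₀ ha₀)
      rwa [← Module.End.mul_apply, ← map_mul, ← pow_succ, Nat.sub_add_cancel hp.out.pos, map_pow] at h5
    have h5 : (ρ t ^ p - ρ t) a₀ ∈ A :=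
      sub_mem (map_pow ρ t p ▸ hT.nA _ (pow_mem ht p) a₀ ha₀) (hT.nA t ht a₀ ha₀)
    rw [LinearMap.add_apply, Module.End.mul_apply, Module.End.natCast_apply,
      ← Nat.cast_smul_eq_nsmul ℤ_[p]] at h1 h2
    exact h2 (add_mem h4 (hT.pm _ ((add_mem_cancel_left h5).1 h1)))
  have heig : ∀ n ∈ normalizer (zpowers x : Set G), ∃ c : ℤ_[p], ρ n m₀ - c • m₀ ∈ B := fun n hn => by
    obtain ⟨k, hk⟩ := hgen n hn
    have h1 : ∀ k : ℕ, ρ (t ^ k) m₀ - c ^ k • m₀ ∈ B := fun k => by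
      induction k with
      | zero => simp
      | succ k ih =>
        have h2 := add_mem (hT.nB t ht _ ih) (B.smul_mem (c ^ k) hc)
        rwa [map_sub, map_smul, smul_sub, sub_add_sub_cancel, ← Module.End.mul_apply, ← map_mul, ← pow_succ',
          smul_smul, ← pow_succ] at h2
    have h2 := add_mem (hT.nB _ (pow_mem ht k) _ (hfix _ hk _ hm₀)) (h1 k)
    rw [map_sub, sub_add_sub_cancel, ← Module.End.mul_apply, ← map_mul, mul_inv_cancel_left] at h2
    exact ⟨_, h2⟩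
  obtain ⟨φ, hφ, hφA, hφ0⟩ := hT.one m₀ hm₀ hmB
  let F : G → Module.End ℤ_[p] M := fun g => ρ g * φ * ρ g⁻¹
  have hF : ∀ g h, F (g * h) = ρ g * F h * ρ g⁻¹ := fun g h => by
    simp only [F, mul_inv_rev, map_mul, mul_assoc]
  have hF1 : ∀ g, ∀ h ∈ zpowers x, F (g * h) = F g := fun g h hh => by
    obtain ⟨k, rfl⟩ := mem_powers_iff_mem_zpowers.2 hh
    have h1 : φ * ρ (x ^ k) = ρ (x ^ k) * φ := by rw [map_pow]; exact (show Commute φ (ρ x) from hφ).pow_right k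
    rw [hF]
    simp only [F]
    rw [← h1, mul_assoc φ, ← map_mul, mul_inv_cancel, map_one, mul_one]
  have hF2 : ∀ (g : G) (q : G ⧸ zpowers x), F (g • q).out = ρ g * F q.out * ρ g⁻¹ := fun g q => by
    obtain ⟨h, e⟩ := QuotientGroup.mk_out_eq_mul (zpowers x) (g * q.out)
    rw [← hF, ← hF1 (g * q.out) _ h.2, ← e]
    congr 2
    conv_lhs => rw [← QuotientGroup.out_eq' q]
    rfl
  have := Fintype.ofFinite (G ⧸ zpowers x)
  let Φ : Module.End ℤ_[p] M := ∑ q : G ⧸ zpowers x, F q.out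
  have hΦ : ∀ g, Φ * ρ g = ρ g * Φ := fun g => by
    have h1 : Φ = ρ g * Φ * ρ g⁻¹ := by
      simp only [Φ, mul_sum, sum_mul, ← hF2]
      exact (Fintype.sum_equiv (MulAction.toPerm g) _ _ fun _ => rfl).symm
    conv_lhs => rw [h1, mul_assoc, ← map_mul, inv_mul_cancel, map_one, mul_one]
  let Y : Finset (G ⧸ zpowers x) := univ.filter fun q => x • q = q
  have hY : ∀ q ∈ Y, q.out ∈ normalizer (zpowers x : Set G) := fun q hq => by
    have h1 : x • q = q := (mem_filter.1 hq).2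
    rw [← QuotientGroup.out_eq' q, MulAction.Quotient.smul_mk, eq_comm, QuotientGroup.eq] at h1
    refine inv_mem_iff.1 (mem_normalizer_fintype ?_)
    rintro _ ⟨k, rfl⟩
    simp only [← conj_zpow]
    exact zpow_mem (by simpa [mul_assoc] using h1) k
  have hY1 : ∀ q ∈ Yᶜ, x • q ≠ q := fun q hq => by simpa [Y] using hq
  have hY2 : ∀ q ∈ Yᶜ, x • q ∈ Yᶜ := fun q hq => by
    simpa [Y] using hY1 q hq
  have hrest : ∀ a ∈ A, Φ a - ∑ q ∈ Y, F q.out a ∈ B := fun a ha => by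
    have h1 := c5_free hx.ord B.toAddSubgroup (fun q : G ⧸ zpowers x => F q.out a) _ Yᶜ rfl hY2 hY1
      fun q _ => by simp only [hF2]; exact hT.tr (F q.out) a ha
    simp only [Φ, LinearMap.sum_apply]
    rwa [← sum_add_sum_compl Y, add_sub_cancel_left]
  have hk : ¬ p ∣ Y.card := fun h => by
    have h1 := c5_free hx.ord (AddSubgroup.zmultiples (p : ℤ)) (fun _ : G ⧸ zpowers x => (1 : ℤ)) _ Yᶜ rfl
      hY2 hY1 fun q _ => by simp
    rw [sum_const, Int.mem_zmultiples_iff, nsmul_eq_mul, mul_one, Int.natCast_dvd_natCast] at h1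
    have h2 := Nat.dvd_add h h1
    rw [card_add_card_compl, ← Nat.card_eq_fintype_card] at h2
    refine hx.sq ?_
    rw [card_eq_card_quotient_mul_card_subgroup (zpowers x), Nat.card_zpowers, hx.ord]
    exact Nat.mul_dvd_mul_right h2 p
  have hline : ∀ a ∈ A, ∃ c : ℤ_[p], Φ a - c • m₀ ∈ B := fun a ha => by
    have h1 : ∀ q : G ⧸ zpowers x, ∃ c : ℤ_[p], q ∈ Y → F q.out a - c • m₀ ∈ B := fun q => by
      by_cases hq : q ∈ Y
      · obtain ⟨c, h2⟩ := hφA _ (hT.nA _ (inv_mem (hY q hq)) a ha)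
        obtain ⟨d, h3⟩ := heig _ (hY q hq)
        have h4 := add_mem (hT.nB _ (hY q hq) _ h2) (B.smul_mem c h3)
        rw [map_sub, map_smul, smul_sub, sub_add_sub_cancel, smul_smul] at h4
        exact ⟨_, fun _ => h4⟩
      · exact ⟨0, fun h => absurd h hq⟩
    choose c hc using h1
    have h2 := add_mem (hrest a ha) (B.sum_mem fun q (hq : q ∈ Y) => hc q hq)
    rw [sum_sub_distrib, sub_add_sub_cancel, ← sum_smul] at h2
    exact ⟨_, h2⟩
  have h0 : Φ m₀ - (Y.card : ℤ_[p]) • m₀ ∈ B := by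
    have h1 : ∀ q ∈ Y, F q.out m₀ - m₀ ∈ B := fun q hq => by
      obtain ⟨d, h3⟩ := heig _ (inv_mem (hY q hq))
      have h4 := hT.nB _ (hY q hq) _ (sub_mem (add_mem (hT.eB φ hφ _ h3) (B.smul_mem d hφ0)) h3)
      have h5 : φ (ρ q.out⁻¹ m₀ - d • m₀) + d • (φ m₀ - m₀) - (ρ q.out⁻¹ m₀ - d • m₀) =
          φ (ρ q.out⁻¹ m₀) - ρ q.out⁻¹ m₀ := by
        rw [map_sub, map_smul, smul_sub]; abel
      rwa [h5, map_sub, ← Module.End.mul_apply (ρ q.out) (ρ q.out⁻¹), ← map_mul, mul_inv_cancel, map_one] at h4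
    have h2 := add_mem (hrest m₀ hm₀) (B.sum_mem h1)
    rwa [sum_sub_distrib, sub_add_sub_cancel, sum_const, ← Nat.cast_smul_eq_nsmul ℤ_[p]] at h2
  have hA : ∀ k : ℕ, ∀ a ∈ A, (Φ ^ k) a ∈ A := fun k =>
    hT.eA _ ((show Commute Φ (ρ x) from hΦ x).pow_left k)
  obtain ⟨k, hk0, h1 | h1⟩ := loc Φ hΦ
  · exfalso
    have h2 : ∀ j : ℕ, (Φ ^ j) m₀ - (Y.card : ℤ_[p]) ^ j • m₀ ∈ B := fun j => by
      induction j with
      | zero => simp
      | succ j ih =>
        have h3 := add_mem (hT.eB Φ (hΦ x) _ ih) (B.smul_mem ((Y.card : ℤ_[p]) ^ j) h0)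
        rwa [map_sub, map_smul, smul_sub, sub_add_sub_cancel, ← Module.End.mul_apply, ← pow_succ',
          smul_smul, ← pow_succ] at h3
    obtain ⟨m', hm'⟩ := h1 m₀
    have h3 := sub_mem (hm' ▸ hT.pm m' (hm' ▸ hA k m₀ hm₀)) (h2 k)
    rw [sub_sub_cancel] at h3
    have h4 : IsUnit ((Y.card : ℤ_[p]) ^ k) := (PadicInt.isUnit_iff.2
      (PadicInt.norm_natCast_eq_one_iff.2 ((Nat.Prime.coprime_iff_not_dvd hp.out).2 hk))).pow k
    exact hmB ((B.smul_mem_iff_of_isUnit h4).1 h3)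
  · refine ⟨m₀, hm₀, fun a ha => ?_⟩
    obtain ⟨m', hm'⟩ := h1 a
    obtain ⟨k, rfl⟩ := Nat.exists_eq_succ_of_ne_zero hk0.ne'
    obtain ⟨c, hc⟩ := hline _ (hA k a ha)
    have h3 := sub_mem hc (hm' ▸ hT.pm m' (hm' ▸ sub_mem (hA _ a ha) ha))
    rw [← Module.End.mul_apply, ← pow_succ', sub_sub_sub_cancel_left] at h3
    exact ⟨c, h3⟩

end Cfsg.Agent.BT
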