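import Cfsg.Agent.MK.LD

/-!
# Lattices over the `p`-adic integers for a self-centralizing Sylow subgroup of order `p`
-/

set_option autoImplicit false

namespace Cfsg.Agent.BT

variable {p : ℕ} [Fact p.Prime] {G : Type*} [Group G] {M : Type*} [AddCommGroup M]
  [Module ℤ_[p] M]

/-- no nontrivial equivariant idempotent -/
def Indec (ρ : G →* Module.End ℤ_[p] M) : Prop :=
  ∀ ε : Module.End ℤ_[p] M, (∀ g, ε * ρ g = ρ g * ε) → ε * ε = ε → ε = 0 ∨ ε = 1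

/-- the norm element of `x` -/
noncomputable def Nm (ρ : G →* Module.End ℤ_[p] M) (x : G) : Module.End ℤ_[p] M :=
  ∑ i ∈ Finset.range p, ρ (x ^ i)

/-- `A / B` is cyclic -/
def Line (A B : Submodule ℤ_[p] M) : Prop := ∃ m₀ ∈ A, ∀ a ∈ A, ∃ c : ℤ_[p], a - c • m₀ ∈ B

/-- the hypotheses on a subquotient `A / B` (Tate cohomology of `⟨x⟩` in degree `0` or `-1`) -/
structure Tate (ρ : G →* Module.End ℤ_[p] M) (x : G) (A B : Submodule ℤ_[p] M) : Prop where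
  nA : ∀ n ∈ Subgroup.normalizer (Subgroup.zpowers x : Set G), ∀ a ∈ A, ρ n a ∈ A
  nB : ∀ n ∈ Subgroup.normalizer (Subgroup.zpowers x : Set G), ∀ a ∈ B, ρ n a ∈ B
  fix : ∀ a ∈ A, ρ x a - a ∈ B
  pm : ∀ m : M, (p : ℤ_[p]) • m ∈ A → (p : ℤ_[p]) • m ∈ B
  eA : ∀ φ : Module.End ℤ_[p] M, φ * ρ x = ρ x * φ → ∀ a ∈ A, φ a ∈ A
  eB : ∀ φ : Module.End ℤ_[p] M, φ * ρ x = ρ x * φ → ∀ a ∈ B, φ a ∈ B
  tr : ∀ ψ : Module.End ℤ_[p] M, ∀ a ∈ A,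
    ∑ i ∈ Finset.range p, ρ (x ^ i) (ψ (ρ (x ^ i)⁻¹ a)) ∈ B
  one : ∀ m₀ ∈ A, m₀ ∉ B → ∃ φ : Module.End ℤ_[p] M, φ * ρ x = ρ x * φ ∧
    (∀ a ∈ A, ∃ c : ℤ_[p], φ a - c • m₀ ∈ B) ∧ φ m₀ - m₀ ∈ B

end Cfsg.Agent.BT
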