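import Cfsg.Agent.BT.Def
import Cfsg.Agent.Zass.CharK

/-! An indecomposable `p`-adic lattice inside an irreducible complex representation. -/

set_option autoImplicit false
set_option linter.unusedSectionVars false

namespace Cfsg.Agent.BT

open Cfsg.Agent.M11 Cfsg.Agent.Char Cfsg.Agent.MK Cfsg.Agent.Zass LinearMap Module

theorem exists_iota (p : ℕ) [Fact p.Prime] : ∃ ι : ℤ_[p] →+* ℂ, Function.Injective ι := by
  have h1 : Cardinal.mk ℚ_[p] ≤ Cardinal.continuum :=
    (Cardinal.mk_quotient_le.trans (Cardinal.mk_subtype_le _)).trans (by simp)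
  have h2 : Cardinal.mk (AlgebraicClosure ℚ_[p]) = Cardinal.continuum := le_antisymm
    ((Algebra.IsAlgebraic.cardinalMk_le_max ℚ_[p] _).trans (max_le h1 Cardinal.aleph0_le_continuum))
    ((continuum_le_cardinal_of_nontriviallyNormedField ℚ_[p]).trans
      (Cardinal.mk_le_of_injective (algebraMap ℚ_[p] _).injective))
  obtain ⟨e⟩ := IsAlgClosed.ringEquiv_of_equiv_of_charZero (K := AlgebraicClosure ℚ_[p]) (L := ℂ)
    (h2 ▸ Cardinal.aleph0_lt_continuum) (Cardinal.eq.1 (h2.trans Cardinal.mk_complex.symm))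
  exact ⟨(e.toRingHom.comp (algebraMap ℚ_[p] _)).comp PadicInt.Coe.ringHom,
    (e.injective.comp (algebraMap ℚ_[p] _).injective).comp Subtype.val_injective⟩

theorem lat_trace {R M : Type*} [CommRing R] [IsDomain R] [IsPrincipalIdealRing R] [AddCommGroup M]
    [Module R M] [Module.Free R M] [Module.Finite R M] {p : ℕ} (T : End R M) (hT : T ^ p = 1) :
    trace R M (∑ i ∈ Finset.range p, T ^ i) = p * finrank R (ker (T - 1)) := by
  have h : ∀ m, (∑ i ∈ Finset.range p, T ^ i) m ∈ ker (T - 1) := fun m => by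
    rw [mem_ker, ← End.mul_apply, mul_geom_sum, hT, sub_self, LinearMap.zero_apply]
  rw [← trace_restrict_eq_of_forall_mem _ _ h, ← trace_one, ← nsmul_eq_mul, ← map_nsmul]
  congr 1
  refine LinearMap.ext fun m => Subtype.ext ?_
  have h1 : T m = m := sub_eq_zero.1 m.2
  have h2 : ∀ i : ℕ, (T ^ i) m = m := fun i => by
    induction i with
    | zero => rfl
    | succ i ih => rw [pow_succ, End.mul_apply, h1, ih]
  simp [LinearMap.sum_apply, h2]

theorem lat_avg {R M G : Type*} [CommRing R] [AddCommGroup M] [Module R M] [Module.Free R M]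
    [Module.Finite R M] [Group G] [Fintype G] (σ : G →* End R M) (N : End R M) :
    trace R M (∑ g, σ g * N * σ g⁻¹) = Fintype.card G * trace R M N := by
  rw [map_sum, Finset.sum_congr rfl fun g _ => show _ = trace R M N by
    rw [trace_mul_comm, ← mul_assoc, ← map_mul, inv_mul_cancel, map_one, one_mul]]
  simp

variable {p : ℕ} [Fact p.Prime] {G : Type*} [Group G] [Finite G] {x : G}

theorem lat_move {M : Type*} [AddCommGroup M] [Module ℤ_[p] M] [Module.Free ℤ_[p] M]
    [Module.Finite ℤ_[p] M] (σ : G →* End ℤ_[p] M) (h : Indec σ) (x : G) :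
    ∃ ρ : G →* End ℤ_[p] (Fin (finrank ℤ_[p] M) → ℤ_[p]), Indec ρ ∧
      finrank ℤ_[p] (ker (ρ x - 1)) = finrank ℤ_[p] (ker (σ x - 1)) := by
  let e := (finBasis ℤ_[p] M).equivFun
  refine ⟨e.conjRingEquiv.toMonoidHom.comp σ, fun ε h1 h2 => ?_, ?_⟩
  · obtain ⟨ε, rfl⟩ := e.conjRingEquiv.surjective ε
    rcases h ε (fun g => e.conjRingEquiv.injective (by rw [map_mul, map_mul]; exact h1 g))
      (e.conjRingEquiv.injective (by rw [map_mul, h2])) with rfl | rfl
    exacts [Or.inl (map_zero _), Or.inr (map_one _)]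
  · rw [← e.finrank_map_eq]
    refine congrArg (fun S : Submodule ℤ_[p] _ => finrank ℤ_[p] S) (Submodule.ext fun v => ?_)
    obtain ⟨v, rfl⟩ := e.surjective v
    simp [sub_eq_zero]

theorem exists_lat {χ : G → ℂ} (hχ : IsIrrCharacter G χ) (hx : x ^ p = 1) :
    ∃ (n : ℕ) (ρ : G →* Module.End ℤ_[p] (Fin n → ℤ_[p])), Indec ρ ∧ deg χ ≤ n ∧
      ∃ r : ℕ, ∑ i ∈ Finset.range p, χ (x ^ i) = p * r ∧
        r * n = Module.finrank ℤ_[p] (ker (ρ x - 1)) * deg χ := by
  classical
  have := Fintype.ofFinite G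
  obtain ⟨k, τ, hτ, rfl⟩ := hχ
  obtain ⟨hnt, hirr⟩ := (isIrreducible_iff τ).1 hτ
  have hk : deg τ.character = k := deg_of_eq (by simp)
  obtain ⟨ι, hι⟩ := exists_iota p
  let _ : Algebra ℤ_[p] ℂ := ι.toAlgebra
  have : FaithfulSMul ℤ_[p] ℂ := (faithfulSMul_iff_algebraMap_injective _ _).2 hι
  let P : ℕ → Prop := fun n => ∃ M : Submodule ℤ_[p] (Fin k → ℂ), M.FG ∧ M ≠ ⊥ ∧
    (∀ g, ∀ v ∈ M, τ g v ∈ M) ∧ finrank ℤ_[p] M = n
  have hP : ∃ n, P n := by
    obtain ⟨v, hv⟩ := exists_ne (0 : Fin k → ℂ)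
    refine ⟨_, Submodule.span ℤ_[p] (Set.range fun g => τ g v), Submodule.fg_span (Set.finite_range _),
      fun e => hv ?_, fun g w hw => ?_, rfl⟩
    · simpa using Submodule.span_eq_bot.1 e _ ⟨1, rfl⟩
    · refine Submodule.mem_comap.1 ((Submodule.span_le
        (p := Submodule.comap ((τ g).restrictScalars ℤ_[p]) _)).2 ?_ hw)
      rintro _ ⟨h, rfl⟩
      exact Submodule.subset_span ⟨g * h, by simp⟩
  obtain ⟨M, hfg, hne, hst, hn⟩ := Nat.find_spec hP
  have : Module.Finite ℤ_[p] M := Module.Finite.iff_fg.2 hfg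
  let σ : G →* End ℤ_[p] M :=
    { toFun := fun g => ((τ g).restrictScalars ℤ_[p]).restrict (hst g)
      map_one' := LinearMap.ext fun m => Subtype.ext (by simp)
      map_mul' := fun g h => LinearMap.ext fun m => Subtype.ext (LinearMap.congr_fun (map_mul τ g h) _) }
  have hσ : ∀ g (m : M), (σ g m : Fin k → ℂ) = τ g m := fun _ _ => rfl
  have hind : Indec σ := fun ε h1 h2 => or_iff_not_imp_left.2 fun h0 => by
    have h3 : Nat.find hP ≤ finrank ℤ_[p] (range ε) := Nat.find_min' hP ⟨(range ε).map M.subtype,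
      (Module.Finite.iff_fg.1 inferInstance).map _, fun e => h0 (LinearMap.ext fun m =>
        Subtype.ext ((Submodule.eq_bot_iff _).1 e _ ⟨_, ⟨m, rfl⟩, rfl⟩)), by
        rintro g _ ⟨_, ⟨m, rfl⟩, rfl⟩
        exact ⟨_, ⟨σ g m, rfl⟩, congrArg Subtype.val (LinearMap.congr_fun (h1 g) m)⟩,
      Submodule.finrank_map_subtype_eq _ _⟩
    have h4 := (ker ε).finrank_quotient_add_finrank
    rw [ε.quotKerEquivRange.finrank_eq] at h4
    have h5 : ker ε = ⊥ := Submodule.finrank_eq_zero.1 (by omega)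
    refine LinearMap.ext fun m => ker_eq_bot.1 h5 ?_
    exact LinearMap.congr_fun h2 m
  obtain ⟨ρ, hρ, hr⟩ := lat_move σ hind x
  have t1 := lat_trace (τ x) (by rw [← map_pow, hx, map_one])
  have t2 := lat_trace (σ x) (by rw [← map_pow, hx, map_one])
  refine ⟨_, ρ, hρ, ?_, finrank ℂ (ker (τ x - 1)), ?_, ?_⟩
  · let b := finBasis ℤ_[p] M
    have h1 : Submodule.span ℂ (Set.range fun i => (b i : Fin k → ℂ)) = Submodule.span ℂ M := by
      rw [← Submodule.span_span_of_tower ℤ_[p]]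
      congr 2
      rw [show (fun i => (b i : Fin k → ℂ)) = M.subtype ∘ b from rfl, Set.range_comp,
        ← Submodule.map_span, b.span_eq, Submodule.map_top, Submodule.range_subtype]
    have h2 : Submodule.span ℂ (M : Set (Fin k → ℂ)) = ⊤ :=
      (hirr _ fun g w hw => Submodule.mem_comap.1 ((Submodule.span_le (p := Submodule.comap (τ g) _)).2
        (fun v hv => Submodule.mem_comap.2 (Submodule.subset_span (hst g v hv))) hw)).resolve_left fun e => hne (by
          rw [Submodule.span_eq_bot] at e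
          exact (Submodule.eq_bot_iff _).2 e)
    have h3 := finrank_le_of_span_eq_top (h1.trans h2)
    simpa [hk] using h3
  · rw [← t1, map_sum]
    exact Finset.sum_congr rfl fun i _ => by rw [← map_pow]; rfl
  · let z : End ℂ (Fin k → ℂ) := ∑ g, τ g * (∑ i ∈ Finset.range p, τ x ^ i) * τ g⁻¹
    obtain ⟨c, hc⟩ := End.exists_eigenvalue z
    have h1 : z.eigenspace c = ⊤ := (hirr _ fun g w hw => by
      rw [End.mem_eigenspace_iff] at hw ⊢
      rw [← map_smul, ← hw, ← End.mul_apply, ← End.mul_apply]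
      congr 1
      simp only [z, Finset.sum_mul _ _ (τ g), Finset.mul_sum _ _ (τ g)]
      refine (Fintype.sum_equiv (Equiv.mulLeft g) _ _ fun h => ?_).symm
      simp only [Equiv.coe_mulLeft, mul_inv_rev, map_mul, mul_assoc]
      rw [← map_mul τ g⁻¹, inv_mul_cancel, map_one, mul_one]).resolve_left hc
    have h2 : z = c • 1 := LinearMap.ext fun v => End.mem_eigenspace_iff.1 (h1.ge trivial)
    have h3 := lat_avg τ (∑ i ∈ Finset.range p, τ x ^ i)
    change trace ℂ _ z = _ at h3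
    rw [h2, t1, map_smul, trace_one, finrank_fin_fun, smul_eq_mul] at h3
    have h4 : k • ∑ g, σ g * (∑ i ∈ Finset.range p, σ x ^ i) * σ g⁻¹ =
        (Fintype.card G * (p * finrank ℂ (ker (τ x - 1)))) • 1 := LinearMap.ext fun m => Subtype.ext (by
      have : ((∑ g, σ g * (∑ i ∈ Finset.range p, σ x ^ i) * σ g⁻¹) m : Fin k → ℂ) = z m := by
        simp only [z, ← map_pow, LinearMap.sum_apply, End.mul_apply, Submodule.coe_sum, hσ]
      rw [LinearMap.smul_apply, Submodule.coe_smul_of_tower, this, h2, LinearMap.smul_apply,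
        LinearMap.smul_apply, Submodule.coe_smul_of_tower, ← Nat.cast_smul_eq_nsmul ℂ,
        ← Nat.cast_smul_eq_nsmul ℂ, smul_smul, mul_comm, h3]
      simp)
    have h5 := congrArg (trace ℤ_[p] M) h4
    rw [map_nsmul, map_nsmul, lat_avg, t2, trace_one, nsmul_eq_mul, nsmul_eq_mul] at h5
    have h6 : k * (Fintype.card G * (p * finrank ℤ_[p] (ker (σ x - 1)))) =
        Fintype.card G * (p * finrank ℂ (ker (τ x - 1))) * finrank ℤ_[p] M := by exact_mod_cast h5
    rw [hr, hk]
    refine Nat.eq_of_mul_eq_mul_left (mul_pos (Fintype.card_pos (α := G)) (Fact.out : p.Prime).pos) ?_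
    linarith

end Cfsg.Agent.BT
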