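import Cfsg.Agent.BT.Lat
import Cfsg.Agent.BT.Loc5
import Cfsg.Agent.BT.Core5
import Cfsg.Agent.BT.Tate
import Cfsg.Agent.BT.Dim
import Cfsg.Agent.MK.Loc1
import Cfsg.Agent.Zass.Even

/-!
# Brauer's theorem on the degrees for a self-centralizing Sylow subgroup of prime order
-/

set_option autoImplicit false

namespace Cfsg.Agent.BT

open Finset Subgroup Cfsg.Agent.M11 Cfsg.Agent.Char Cfsg.Agent.MK Cfsg.Agent.Zass LinearMap

variable {G : Type*} [Group G] [Finite G] {x : G}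

theorem sum_pow_eq {p e X : ℕ} (h : LD p e X x) {χ : G → ℂ} (hχ : IsCharacter G χ) :
    ∃ W : ℂ, IsIntegral ℤ W ∧ ∑ i ∈ Finset.range p, χ (x ^ i) = χ 1 + e * W := by
  classical
  have := Fact.mk h.pr
  let Y : Finset G := ((Finset.range p).image (x ^ ·)).erase 1
  have hY : ∀ y, y ∈ Y ↔ y ≠ 1 ∧ y ∈ zpowers x := fun y => by
    rw [mem_erase, mem_zpowers_iff_mem_range_orderOf, h.ord]
  have h1 : ∑ i ∈ Finset.range p, χ (x ^ i) = χ 1 + ∑ y ∈ Y, χ y := by
    rw [add_sum_erase _ _ (mem_image.2 ⟨0, mem_range.2 h.pr.pos, pow_zero x⟩), sum_image]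
    exact fun i hi j hj e => pow_injOn_Iio_orderOf (by simpa [h.ord] using hi)
      (by simpa [h.ord] using hj) e
  have h2 : ∀ y ∈ Y, #{w ∈ Y | ConjClasses.mk w = ConjClasses.mk y} = e := fun y hy => by
    obtain ⟨hy1, hy2⟩ := (hY y).1 hy
    have ho : orderOf y = p := ((Nat.dvd_prime h.pr).1 (h.ord ▸ orderOf_dvd_of_mem_zpowers hy2)).resolve_left
      (mt orderOf_eq_one_iff.1 hy1)
    have hz : zpowers y = zpowers x := eq_of_le_of_card_ge (zpowers_le_of_mem hy2)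
      (by rw [Nat.card_zpowers, Nat.card_zpowers, ho, h.ord])
    have h3 := card_inf_centralizer_mul (normalizer (zpowers y : Set G)) y
    rw [inf_eq_right.2 (cen_le_nrm y), ← cc, (h.of_ord ho).ccx, (h.of_ord ho).nrm] at h3
    rw [← Nat.eq_of_mul_eq_mul_left (Nat.mul_pos h.pr.pos h.not_dvd.2.2.2.1) h3, ← Set.ncard_coe_finset]
    congr 1
    ext w
    simp only [coe_filter, hY, Set.mem_ofPred_eq, ConjClasses.mk_eq_mk_iff_isConj, ← hz]
    constructor
    · rintro ⟨⟨-, hw⟩, hc⟩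
      obtain ⟨g, rfl⟩ := isConj_iff.1 hc.symm
      refine ⟨g, mem_normalizer_fintype ?_, rfl⟩
      rintro _ ⟨k, rfl⟩
      simp only [← conj_zpow]
      exact zpow_mem hw k
    · rintro ⟨g, hg, rfl⟩
      exact ⟨⟨by simpa using hy1, (mem_normalizer_iff.1 hg y).1 (mem_zpowers y)⟩,
        (isConj_iff.2 ⟨g, rfl⟩).symm⟩
  refine ⟨∑ c ∈ Y.image ConjClasses.mk, χ c.out, IsIntegral.sum _ fun c _ => char_isIntegral hχ _, ?_⟩
  rw [h1, ← sum_fiberwise_of_maps_to (g := ConjClasses.mk) fun y hy => mem_image_of_mem _ hy, mul_sum]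
  refine congrArg _ (sum_congr rfl fun c hc => ?_)
  obtain ⟨y, hy, rfl⟩ := mem_image.1 hc
  rw [← h2 y hy, ← nsmul_eq_mul, ← sum_const]
  refine sum_congr rfl fun w hw => classFun_of_isConj (char_isClassFunction hχ) ?_
  exact ConjClasses.mk_eq_mk_iff_isConj.1 ((mem_filter.1 hw).2.trans (Quotient.out_eq _).symm)

/-- Brauer's theorem on the degrees -/
theorem brauer {p e : ℕ} (h : LD p e 1 x) {χ : G → ℂ} (hχ : IsIrrCharacter G χ) :
    ∃ w : ℤ, (p : ℤ) ∣ deg χ + e * w ∧ (e * w).natAbs ≤ p := by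
  have := Fact.mk h.pr
  have hx : x ^ p = 1 := h.ord ▸ pow_orderOf_eq_one x
  obtain ⟨n, ρ, hρ, h1, r, h2, h3⟩ := exists_lat (p := p) hχ hx
  have h4 := dim0 hx (line5 (loc5 hρ) h (tate0 h.ord))
  have h5 := dim1 hx (line5 (loc5 hρ) h (tate1 h.ord))
  rw [Module.finrank_fin_fun] at h4 h5
  obtain ⟨W, h6, h7⟩ := sum_pow_eq h (irr_isCharacter hχ)
  rw [h2, irr_deg hχ] at h7
  obtain ⟨w, rfl⟩ := int_of_isIntegral_of_mul h6 (a := p * r - deg χ) (b := e)
    (by exact_mod_cast h.not_dvd.2.2.2.2.ne') (by push_cast; linear_combination -h7)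
  have h8 : (p * r : ℤ) = deg χ + e * w := by exact_mod_cast h7
  refine ⟨w, ⟨r, h8.symm⟩, ?_⟩
  have h9 : 0 < deg χ := by
    obtain ⟨d, hd, e⟩ := irr_apply_one hχ
    rwa [deg_of_eq e]
  generalize Module.finrank ℤ_[p] (ker (ρ x - 1)) = s at *
  generalize deg χ = d at *
  have h10 : p * r ≤ d + p := Nat.le_of_mul_le_mul_right (c := n) (by
    calc p * r * n = p * s * d := by rw [mul_assoc, h3, mul_assoc]
      _ ≤ (n + p) * d := Nat.mul_le_mul_right _ h4
      _ ≤ (d + p) * n := by nlinarith) (by omega)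
  have h11 : d ≤ p * r + p := Nat.le_of_mul_le_mul_right (c := n) (by
    calc d * n ≤ d * (p * s + p) := Nat.mul_le_mul_left _ h5
      _ = p * (r * n) + p * d := by rw [h3]; ring
      _ ≤ (p * r + p) * n := by nlinarith) (by omega)
  have h12 : ((p * r : ℕ) : ℤ) = d + e * w := by exact_mod_cast h8
  omega

end Cfsg.Agent.BT
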